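import Groth.Agent.L24.LocQ.Calculus
import Groth.Agent.L24.Alg.FlatFpqc

/-!
Flat, locally of finite type and locally of finite presentation are smooth local on source and target.
-/

set_option autoImplicit false
set_option backward.isDefEq.respectTransparency false
set_option backward.isDefEq.respectTransparency.types false

universe u

open CategoryTheory CategoryTheory.Limits AlgebraicGeometry Opposite AlgSp

namespace Groth.L24.LocQ

variable {S : Scheme.{u}} {Q : MorphismProperty Scheme.{u}}

theorem isSmoothLocalST_locP (hQ : Groth.L23.EtLocal Q)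
    (hsm : ∀ {A B : Scheme.{u}} (φ : A ⟶ B), Smooth φ → Q φ)
    (hs : Q.IsLocalAtSource (Scheme.precoverage @Smooth)) :
    IsSmoothLocalST (LocP Q : MorphismProperty (Sp S)) where
  precomp X Y Z hX hY hZ f g hf hg :=
    Groth.L23.locP_comp hQ hX hY hZ (Groth.L23.locP_mono (fun φ h => hsm φ h) hf) hg
  baseChange X Y X' Y' hX hY _ hY' f g f' g' sq _ hf := Groth.L23.locP_of_isPullback hQ hX hY hY' sq hf
  locality X Y hX hY f := by
    refine ⟨fun hf x => ⟨X, Y, 𝟙 X, 𝟙 Y, f, x, hX, hY, locP_etale_smooth (Groth.L23.repWith_of_isIso _),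
      locP_etale_smooth (Groth.L23.repWith_of_isIso _), by simp, Points.map_id x, hf⟩, fun H => ?_⟩
    obtain ⟨U₀, c, hc, hcs⟩ := hX.atlas
    choose U V a b h v hU hV ha hb w hv hh using fun t : ↥U₀.left => H (Points.ofPt c t)
    refine (Groth.L24.Alg.isLocalOnSource_smooth hs U a hX hU ⟨ha, fun x => ?_⟩ f hY).2 fun t => ?_
    · obtain ⟨t, rfl⟩ := Groth.L23.surjective_ofPt hcs x
      exact ⟨t, v t, hv t⟩
    · rw [w t]
      exact Groth.L23.locP_comp hQ (hU t) (hV t) hY (hh t) (Groth.L23.locP_mono (fun φ h => hsm φ h) (hb t))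

theorem smooth_precoverage_le_fppf : Scheme.precoverage @Smooth ≤ Scheme.fppfPrecoverage.{u} :=
  Scheme.precoverage_mono fun _ _ _ (h : Smooth _) => have := h; ⟨inferInstance, inferInstance⟩

theorem isSmoothLocalST_lft : IsSmoothLocalST (LocP @LocallyOfFiniteType : MorphismProperty (Sp S)) :=
  isSmoothLocalST_locP Groth.L23.etLocal_lft (fun _ h => have := h; inferInstance)
    (@MorphismProperty.IsLocalAtSource.of_le _ _ _ _ _ Groth.L24.Alg.isLocalAtSource_fppf_lft smooth_precoverage_le_fppf)

theorem isSmoothLocalST_lfp : IsSmoothLocalST (LocP @LocallyOfFinitePresentation : MorphismProperty (Sp S)) :=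
  isSmoothLocalST_locP Groth.L23.etLocal_lfp (fun _ h => have := h; inferInstance)
    (@MorphismProperty.IsLocalAtSource.of_le _ _ _ _ _ Groth.L24.Alg.isLocalAtSource_fppf_lfp smooth_precoverage_le_fppf)

theorem isSmoothLocalST_flat : IsSmoothLocalST (LocP @Flat : MorphismProperty (Sp S)) :=
  isSmoothLocalST_locP Groth.L23.etLocal_flat (fun _ h => have := h; inferInstance)
    (@MorphismProperty.IsLocalAtSource.of_le _ _ _ _ _ Groth.L24.Alg.isLocalAtSource_fpqc_flat
      (smooth_precoverage_le_fppf.trans Scheme.fppfPrecoverage_le_fpqcPrecoverage))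

end Groth.L24.LocQ
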