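import Groth.Agent.L24.LocQ.BaseChange
import Groth.Agent.L24.LocQ.Instances
import Groth.Agent.L24.St.LocPFppf
import Groth.Agent.L24.St.StackSp

/-!
Fppf descent and cancellation of properties of functors between algebraic stacks read on charts.
-/

set_option autoImplicit false
set_option backward.isDefEq.respectTransparency false
set_option backward.isDefEq.respectTransparency.types false

universe u

open CategoryTheory CategoryTheory.Limits AlgebraicGeometry Opposite AlgSt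

noncomputable section

namespace Groth.L24.LocQ

open Groth.L24.St

variable {S : Scheme.{u}} {P : MorphismProperty (AlgSp.Sp S)} {𝒳 𝒴 𝒵 : AlgSt.Cat S}

theorem locP_map_iff {Q : MorphismProperty Scheme.{u}} (hQ : Groth.L23.EtLocal Q) {U V : Over S} (h : U ⟶ V) :
    AlgSp.LocP Q ((AlgSp.yon S).map h) ↔ Q h.left := by
  refine ⟨prop_of_locP_map, fun hh => ?_⟩
  have := hQ.stable
  exact Groth.L23.locP_of_repWith hQ ((AlgSp.repWith_yon_map_iff Q h).2 hh)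

theorem isFppfCover_map {W V : Over S} {k : W ⟶ V} (h₁ : AlgSp.LocP @Flat ((AlgSp.yon S).map k))
    (h₂ : AlgSp.LocP @LocallyOfFinitePresentation ((AlgSp.yon S).map k)) (h₃ : Function.Surjective k.left) :
    AlgSp.IsFppfCover (ι := PUnit.{u + 1}) (fun _ => (AlgSp.yon S).obj W) (fun _ => (AlgSp.yon S).map k) :=
  ⟨fun _ => ⟨h₁, h₂⟩, fun x => ⟨⟨⟩,
    Groth.L23.surjective_map_of_repWith ((AlgSp.repWith_yon_map_iff @Surjective k).2 ⟨h₃⟩) x⟩⟩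

theorem locQ_of_fpFst_fppf (hP : AlgSp.IsSmoothLocalST P) (hL : AlgSp.IsLocalOnBase AlgSp.IsFppfCover P)
    (h𝒳 : IsAlgStack Scheme.fppfPrecoverage 𝒳) (h𝒴 : IsAlgStack Scheme.fppfPrecoverage 𝒴)
    (h𝒵 : IsAlgStack Scheme.fppfPrecoverage 𝒵) {f : 𝒳 ⥤ᵇ 𝒴} {z : 𝒵 ⥤ᵇ 𝒴}
    (hz₁ : AlgSt.LocQ (AlgSp.LocP @Flat) z) (hz₂ : AlgSt.LocQ (AlgSp.LocP @LocallyOfFinitePresentation) z)
    (hz₃ : IsSurjective z) (h : AlgSt.LocQ P (FibCat.fpFst z f)) : AlgSt.LocQ P f :=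
  locQ_of_fpFst hP h𝒳 h𝒴 h𝒵 hz₃ (fun _ _ _ _ _ h' _ hy hm j hs hh => prop_of_cover hL h' _
    (isFppfCover_map (prop_of_chart isSmoothLocalST_flat h𝒵.isStack.1 h𝒴.isStack.1 hz₁ hy hm j)
      (prop_of_chart isSmoothLocalST_lfp h𝒵.isStack.1 h𝒴.isStack.1 hz₂ hy hm j) hs) hh) h

theorem locQ_of_repWith_locP {Q : MorphismProperty Scheme.{u}} (hQ : Groth.L23.EtLocal Q)
    (h𝒳 : IsAlgStack Scheme.fppfPrecoverage 𝒳) (h𝒴 : IsAlgStack Scheme.fppfPrecoverage 𝒴) {f : 𝒳 ⥤ᵇ 𝒴}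
    (hf : RepByAlgSpWith (AlgSp.LocP Q) f) : AlgSt.LocQ (AlgSp.LocP Q) f :=
  locQ_of_repWith (fun W F V _ _ hF ha hν => Groth.L23.locP_comp hQ (AlgSp.IsAlgSpace.yon_obj W) hF
    (AlgSp.IsAlgSpace.yon_obj V)
    (Groth.L23.locP_mono (fun φ hφ => hQ.etale φ hφ) (Groth.L23.locP_of_repWith Groth.L23.etLocal_etale ha)) hν)
    h𝒳 h𝒴 hf

theorem flat_of_base_change {X Y W : Scheme.{u}} (h : X ⟶ Y) (k : W ⟶ Y) [Flat k] [Surjective k]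
    (hf : Flat (pullback.snd h k)) : Flat h := by
  refine Flat.of_stalkMap h fun x => ?_
  obtain ⟨w, rfl⟩ := (pullback.fst h k).surjective x
  refine Groth.L24.Alg.flat_of_flat_comp_local (h.stalkMap _) ((pullback.fst h k).stalkMap w)
    (Flat.stalkMap _ w) ?_
  rw [← Scheme.Hom.stalkMap_comp]
  have : Flat (pullback.fst h k ≫ h) := by rw [pullback.condition]; infer_instance
  exact Flat.stalkMap _ w

theorem flat_of_comp_surjective {X Y Z : Scheme.{u}} (h : X ⟶ Y) (k : Y ⟶ Z) [Flat h] [Surjective h]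
    (hf : Flat (h ≫ k)) : Flat k := by
  refine Flat.of_stalkMap k fun y => ?_
  obtain ⟨x, rfl⟩ := h.surjective y
  refine Groth.L24.Alg.flat_of_flat_comp_local (k.stalkMap _) (h.stalkMap x) (Flat.stalkMap _ x) ?_
  rw [← Scheme.Hom.stalkMap_comp]
  exact Flat.stalkMap _ x

theorem locQ_flat_of_fpFst (h𝒳 : IsAlgStack Scheme.fppfPrecoverage 𝒳) (h𝒴 : IsAlgStack Scheme.fppfPrecoverage 𝒴)
    (h𝒵 : IsAlgStack Scheme.fppfPrecoverage 𝒵) {f : 𝒳 ⥤ᵇ 𝒴} {z : 𝒵 ⥤ᵇ 𝒴}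
    (hz₁ : AlgSt.LocQ (AlgSp.LocP @Flat) z) (hz₂ : IsSurjective z)
    (h : AlgSt.LocQ (AlgSp.LocP @Flat) (FibCat.fpFst z f)) : AlgSt.LocQ (AlgSp.LocP @Flat) f := by
  refine locQ_of_fpFst isSmoothLocalST_flat h𝒳 h𝒴 h𝒵 hz₂ (fun U W V y m h' k hy hm j hs hh => ?_) h
  have hk : Flat k.left :=
    prop_of_locP_map (prop_of_chart isSmoothLocalST_flat h𝒵.isStack.1 h𝒴.isStack.1 hz₁ hy hm j)
  have : Surjective k.left := ⟨hs⟩
  have h1 : Flat (pullback.snd h' k).left := prop_of_locP_map hh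
  have e := ((IsPullback.of_hasPullback h' k).map (Over.forget S)).isoPullback_hom_snd
  change _ = (pullback.snd h' k).left at e
  rw [← e, MorphismProperty.cancel_left_of_respectsIso (P := @Flat)] at h1
  exact (locP_map_iff Groth.L23.etLocal_flat h').2 (flat_of_base_change h'.left k.left h1)

/-- A chart of a composite from charts of the factors. -/
theorem exists_chart_comp (h𝒳 : IsAlgStack Scheme.fppfPrecoverage 𝒳) (h𝒴 : IsAlgStack Scheme.fppfPrecoverage 𝒴)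
    (h𝒵 : IsAlgStack Scheme.fppfPrecoverage 𝒵) {f : 𝒳 ⥤ᵇ 𝒴} {g : 𝒴 ⥤ᵇ 𝒵} {U V W : Over S}
    {z : FibCat.overCat W ⥤ᵇ 𝒵} {m : FibCat.overCat V ⥤ᵇ FibCat.fp g z}
    (hm : RepByAlgSpWith (AlgSp.LocP @Smooth) m) {k : V ⟶ W}
    (j : BasedFunctor.comp m (FibCat.fpSnd g z) ≅ overMap k)
    {ℓ : FibCat.overCat U ⥤ᵇ FibCat.fp f (BasedFunctor.comp m (FibCat.fpFst g z))}
    (hℓ : RepByAlgSpWith (AlgSp.LocP @Smooth) ℓ) {h : U ⟶ V}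
    (i : BasedFunctor.comp ℓ (FibCat.fpSnd f (BasedFunctor.comp m (FibCat.fpFst g z))) ≅ overMap h) :
    ∃ N : FibCat.overCat U ⥤ᵇ FibCat.fp (BasedFunctor.comp f g) z, RepByAlgSpWith (AlgSp.LocP @Smooth) N ∧
      Nonempty (BasedFunctor.comp N (FibCat.fpSnd (BasedFunctor.comp f g) z) ≅ overMap (h ≫ k)) := by
  have hV := overCat_isFibGrpd V
  have hW := overCat_isFibGrpd W
  let R := legR (F := f) (G := FibCat.fpFst g z) (G' := BasedFunctor.comp m (FibCat.fpFst g z)) m (Iso.refl _)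
  let M := fpMap (F := FibCat.fpSnd z g) (G := f) (F' := FibCat.fpFst g z) (G' := f)
    (fpSwap (F := g) (G := z)) (BasedFunctor.id _) (Iso.refl _) (Iso.refl _)
  let E := BasedFunctor.comp (fpSwap (F := f) (G := FibCat.fpFst g z))
    (BasedFunctor.comp M (BasedFunctor.comp (fpComp z f g) fpSwap))
  have hE : FibCat.IsEquivOver E := isEquivOver_comp fpSwap_isEquivOver (isEquivOver_comp
    (fpMap_isEquivOver fpSwap_isEquivOver (isEquivOver_id _) _ _)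
    (isEquivOver_comp (fpComp_isEquivOver z f g) fpSwap_isEquivOver))
  obtain ⟨c⟩ := exists_overMap_comp h k
  refine ⟨BasedFunctor.comp (BasedFunctor.comp ℓ R) E, (repWith_postcomp hE _).2
    (repWith_comp_locP Groth.L23.etLocal_smooth (overCat_isFibGrpd U)
      (L09.Fib.fp_isFibGrpd h𝒳.isStack.1 hV h𝒴.isStack.1) hℓ (legR_repWith hm)), ⟨?_⟩⟩
  exact whiskerL ℓ (whiskerL (FibCat.fpSnd f _) j) ≪≫ whiskerR i (overMap k) ≪≫ c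

theorem locQ_left_of_comp (hP : AlgSp.IsSmoothLocalST P) (h𝒳 : IsAlgStack Scheme.fppfPrecoverage 𝒳)
    (h𝒴 : IsAlgStack Scheme.fppfPrecoverage 𝒴) (h𝒵 : IsAlgStack Scheme.fppfPrecoverage 𝒵)
    {f : 𝒳 ⥤ᵇ 𝒴} {g : 𝒴 ⥤ᵇ 𝒵}
    (hcancel : ∀ ⦃U V W : Over S⦄ ⦃z : FibCat.overCat W ⥤ᵇ 𝒵⦄ ⦃m : FibCat.overCat V ⥤ᵇ FibCat.fp g z⦄ (h : U ⟶ V)
      ⦃k : V ⟶ W⦄, RepByAlgSpWith (AlgSp.LocP @Smooth) z → RepByAlgSpWith (AlgSp.LocP @Smooth) m →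
      (BasedFunctor.comp m (FibCat.fpSnd g z) ≅ overMap k) →
      P ((AlgSp.yon S).map (h ≫ k)) → P ((AlgSp.yon S).map h))
    (hfg : AlgSt.LocQ P (BasedFunctor.comp f g)) : AlgSt.LocQ P f := by
  obtain ⟨W, z, hz, hzs⟩ := h𝒵.atlas
  obtain ⟨V, m, k, hm, -, ⟨j⟩, hy, -, hys⟩ := exists_chart h𝒴 h𝒵 g z hz
  obtain ⟨U, ℓ, h, hℓ, hℓs, ⟨i⟩, -, -, -⟩ := exists_chart h𝒳 h𝒴 f _ hy
  obtain ⟨N, hN, ⟨e⟩⟩ := exists_chart_comp h𝒳 h𝒴 h𝒵 hm j hℓ i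
  exact locQ_of_chart h𝒳 h𝒴 hy (hys hzs) hℓ hℓs i
    (hcancel h hz hm j (prop_of_chart hP h𝒳.isStack.1 h𝒵.isStack.1 hfg hz hN e))

theorem locQ_right_of_comp (hP : AlgSp.IsSmoothLocalST P) (h𝒳 : IsAlgStack Scheme.fppfPrecoverage 𝒳)
    (h𝒴 : IsAlgStack Scheme.fppfPrecoverage 𝒴) (h𝒵 : IsAlgStack Scheme.fppfPrecoverage 𝒵)
    {f : 𝒳 ⥤ᵇ 𝒴} {g : 𝒴 ⥤ᵇ 𝒵} (hf : IsSurjective f)
    (hdesc : ∀ ⦃U V W : Over S⦄ ⦃y : FibCat.overCat V ⥤ᵇ 𝒴⦄ ⦃ℓ : FibCat.overCat U ⥤ᵇ FibCat.fp f y⦄ ⦃h : U ⟶ V⦄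
      (k : V ⟶ W), RepByAlgSpWith (AlgSp.LocP @Smooth) y → RepByAlgSpWith (AlgSp.LocP @Smooth) ℓ →
      (BasedFunctor.comp ℓ (FibCat.fpSnd f y) ≅ overMap h) → Function.Surjective h.left →
      P ((AlgSp.yon S).map (h ≫ k)) → P ((AlgSp.yon S).map k))
    (hfg : AlgSt.LocQ P (BasedFunctor.comp f g)) : AlgSt.LocQ P g := by
  obtain ⟨W, z, hz, hzs⟩ := h𝒵.atlas
  obtain ⟨V, m, k, hm, hms, ⟨j⟩, hy, -, hys⟩ := exists_chart h𝒴 h𝒵 g z hz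
  obtain ⟨U, ℓ, h, hℓ, hℓs, ⟨i⟩, -, -, -⟩ := exists_chart h𝒳 h𝒴 f _ hy
  obtain ⟨N, hN, ⟨e⟩⟩ := exists_chart_comp h𝒳 h𝒴 h𝒵 hm j hℓ i
  exact locQ_of_chart h𝒴 h𝒵 hz hzs hm hms j (hdesc k hy hℓ i (surjective_chart h𝒴.isStack.1 h𝒳.isStack.1 hf hℓs i)
    (prop_of_chart hP h𝒳.isStack.1 h𝒵.isStack.1 hfg hz hN e))

theorem locQ_lft_of_comp (h𝒳 : IsAlgStack Scheme.fppfPrecoverage 𝒳) (h𝒴 : IsAlgStack Scheme.fppfPrecoverage 𝒴)
    (h𝒵 : IsAlgStack Scheme.fppfPrecoverage 𝒵) {f : 𝒳 ⥤ᵇ 𝒴} {g : 𝒴 ⥤ᵇ 𝒵}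
    (hfg : AlgSt.LocQ (AlgSp.LocP @LocallyOfFiniteType) (BasedFunctor.comp f g)) :
    AlgSt.LocQ (AlgSp.LocP @LocallyOfFiniteType) f :=
  locQ_left_of_comp isSmoothLocalST_lft h𝒳 h𝒴 h𝒵 (fun _ _ _ _ _ h k _ _ _ hh => by
    have : LocallyOfFiniteType (h.left ≫ k.left) := by rw [← Over.comp_left]; exact prop_of_locP_map hh
    exact (locP_map_iff Groth.L23.etLocal_lft h).2 (locallyOfFiniteType_of_comp h.left k.left)) hfg

theorem locQ_id {Q : MorphismProperty Scheme.{u}} (hQ : Groth.L23.EtLocal Q)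
    (h𝒳 : IsAlgStack Scheme.fppfPrecoverage 𝒳) : AlgSt.LocQ (AlgSp.LocP Q) (BasedFunctor.id 𝒳) := by
  obtain ⟨U, x, hx, hxs⟩ := h𝒳.atlas
  obtain ⟨ψ, ⟨i⟩, hψ⟩ := exists_overMap_iso (BasedFunctor.id (FibCat.overCat U))
  have e : ψ = 𝟙 U := (AlgSp.yon S).map_injective (by
    rw [← hψ, CategoryTheory.Functor.map_id]
    exact spMapOfOver_toOverCat U)
  subst e
  exact ⟨U, U, x, x, 𝟙 U, whiskerR i x, hx, hxs, hx,
    (locP_map_iff hQ (𝟙 U)).2 (hQ.etale _ (inferInstanceAs (Etale (𝟙 U.left))))⟩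

end Groth.L24.LocQ
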