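import Groth.Agent.L24.LocQ.Descent
import Groth.Agent.L24.St.SmoothLocal
import Groth.Agent.L24.St.ChartTop
import Groth.Agent.L24.Alg.NoethDescent

/-!
Locally Noetherian algebraic stacks and functors locally of finite type.
-/

set_option autoImplicit false
set_option backward.isDefEq.respectTransparency false
set_option backward.isDefEq.respectTransparency.types false

universe u

open CategoryTheory CategoryTheory.Limits AlgebraicGeometry Opposite AlgSt

noncomputable section

namespace Groth.L24.LocQ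

open Groth.L24.St

variable {S : Scheme.{u}} {𝒳 𝒴 : AlgSt.Cat S}

theorem smoothLocalProp_isLocallyNoetherian :
    SmoothLocalProp (fun T : Scheme.{u} => IsLocallyNoetherian T) := fun U R hR => by
  obtain ⟨E, rfl⟩ := Precoverage.mem_iff_exists_zeroHypercover.1 hR
  have hsm : ∀ i, Smooth (E.f i) := ((Scheme.ofArrows_mem_precoverage_iff (P := @Smooth)).1 hR).2
  have hcov := ((Scheme.ofArrows_mem_precoverage_iff (P := @Smooth)).1 hR).1
  refine ⟨fun hU V g hg => ?_, fun h => ?_⟩
  · obtain ⟨i⟩ := hg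
    have := hsm i
    exact LocallyOfFiniteType.isLocallyNoetherian (E.f i)
  · have : ∀ i, IsLocallyNoetherian (E.X i) := fun i => h (E.f i) ⟨i⟩
    refine IsLocallyNoetherian.mk fun V => ?_
    let W : E.I₀ → Scheme.{u} := fun i => pullback (E.f i) (V : U.Opens).ι
    choose i w hw using fun x : ↥(V : U.Opens).toScheme => hcov ((V : U.Opens).ι x)
    let π : ∐ (fun x : ↥(V : U.Opens).toScheme => W (i x)) ⟶ (V : U.Opens).toScheme :=
      Sigma.desc fun x => pullback.snd (E.f (i x)) (V : U.Opens).ι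
    have : Smooth π := IsZariskiLocalAtSource.sigmaDesc fun x => by
      have := hsm (i x); infer_instance
    have : Surjective π := ⟨fun x => by
      obtain ⟨z, -, hz⟩ := Scheme.Pullback.exists_preimage_pullback (w x) x (hw x)
      exact ⟨Sigma.ι (fun x : ↥(V : U.Opens).toScheme => W (i x)) x z, by
        rw [← Scheme.Hom.comp_apply, Sigma.ι_desc]; exact hz⟩⟩
    let ρ : ∀ x : ↥(V : U.Opens).toScheme, W (i x) ⟶ E.X (i x) := fun x => pullback.fst _ _
    have : ∀ x, IsLocallyNoetherian (W (i x)) := fun x => LocallyOfFiniteType.isLocallyNoetherian (ρ x)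
    have : IsLocallyNoetherian (∐ fun x : ↥(V : U.Opens).toScheme => W (i x)) :=
      (isLocallyNoetherian_iff_openCover (sigmaOpenCover _)).2 fun x => this x
    have := Groth.L24.Alg.isLocallyNoetherian_of_fppf π
    have := IsLocallyNoetherian.component_noetherian
      (X := (V : U.Opens).toScheme) ⟨⊤, @isAffineOpen_top _ V.2⟩
    exact isNoetherianRing_of_ringEquiv _ (V : U.Opens).topIso.commRingCatIsoToRingEquiv

theorem smoothLocally_noetherian_of_lft (h𝒳 : IsAlgStack Scheme.fppfPrecoverage 𝒳)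
    (h𝒴 : IsAlgStack Scheme.fppfPrecoverage 𝒴) {f : 𝒳 ⥤ᵇ 𝒴} (hf : AlgSt.LocQ (AlgSp.LocP @LocallyOfFiniteType) f)
    (hN : SmoothLocally (fun T ↦ IsLocallyNoetherian T) 𝒴) : SmoothLocally (fun T ↦ IsLocallyNoetherian T) 𝒳 := by
  obtain ⟨V, y, hy, hys⟩ := h𝒴.atlas
  obtain ⟨U, ℓ, k, hℓ, -, ⟨i⟩, hx, -, hxs⟩ := exists_chart h𝒳 h𝒴 f y hy
  have : IsLocallyNoetherian V.left := hN V y hy
  have : LocallyOfFiniteType k.left :=
    prop_of_locP_map (prop_of_chart isSmoothLocalST_lft h𝒳.isStack.1 h𝒴.isStack.1 hf hy hℓ i)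
  exact smoothLocally_of_chart h𝒳.isStack.1 smoothLocalProp_isLocallyNoetherian hx
    (surjective_ofChart_of_repWith h𝒳.isStack.1 (hxs hys)) (LocallyOfFiniteType.isLocallyNoetherian k.left)

theorem locQ_lfp_of_noetherian (h𝒳 : IsAlgStack Scheme.fppfPrecoverage 𝒳)
    (h𝒴 : IsAlgStack Scheme.fppfPrecoverage 𝒴) {f : 𝒳 ⥤ᵇ 𝒴}
    (hN : SmoothLocally (fun T ↦ IsLocallyNoetherian T) 𝒴) (hf : AlgSt.LocQ (AlgSp.LocP @LocallyOfFiniteType) f) :
    AlgSt.LocQ (AlgSp.LocP @LocallyOfFinitePresentation) f := by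
  obtain ⟨V, y, hy, hys⟩ := h𝒴.atlas
  refine locQ_of_forall h𝒳 h𝒴 hy hys fun U ℓ h hℓ i => ?_
  have : IsLocallyNoetherian V.left := hN V y hy
  have : LocallyOfFiniteType h.left :=
    prop_of_locP_map (prop_of_chart isSmoothLocalST_lft h𝒳.isStack.1 h𝒴.isStack.1 hf hy hℓ i)
  exact (locP_map_iff Groth.L23.etLocal_lfp h).2 inferInstance

end Groth.L24.LocQ
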