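import Groth.Agent.L24.LocQ.Descent
import Groth.Agent.S12442

/-!
Cancellation for locally finite presentation; descent along fppf surjections on the source.
-/

set_option autoImplicit false
set_option backward.isDefEq.respectTransparency false
set_option backward.isDefEq.respectTransparency.types false

universe u

open CategoryTheory CategoryTheory.Limits AlgebraicGeometry Opposite AlgSt

noncomputable section

namespace Groth.L24.LocQ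

open Groth.L24.St

variable {S : Scheme.{u}} {𝒳 𝒴 𝒵 : AlgSt.Cat S}

theorem locQ_lfp_of_comp (h𝒳 : IsAlgStack Scheme.fppfPrecoverage 𝒳) (h𝒴 : IsAlgStack Scheme.fppfPrecoverage 𝒴)
    (h𝒵 : IsAlgStack Scheme.fppfPrecoverage 𝒵) {f : 𝒳 ⥤ᵇ 𝒴} {g : 𝒴 ⥤ᵇ 𝒵}
    (hfg : AlgSt.LocQ (AlgSp.LocP @LocallyOfFinitePresentation) (BasedFunctor.comp f g))
    (hg : AlgSt.LocQ (AlgSp.LocP @LocallyOfFiniteType) g) :
    AlgSt.LocQ (AlgSp.LocP @LocallyOfFinitePresentation) f :=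
  locQ_left_of_comp isSmoothLocalST_lfp h𝒳 h𝒴 h𝒵 (fun _ _ _ _ _ h k hz hm j hh => by
    have : LocallyOfFiniteType k.left :=
      prop_of_locP_map (prop_of_chart isSmoothLocalST_lft h𝒴.isStack.1 h𝒵.isStack.1 hg hz hm j)
    have : LocallyOfFinitePresentation (h.left ≫ k.left) := by rw [← Over.comp_left]; exact prop_of_locP_map hh
    exact (locP_map_iff Groth.L23.etLocal_lfp h).2 (Groth.Agent.S12442.result h.left k.left)) hfg

theorem locQ_lfp_diag (h𝒳 : IsAlgStack Scheme.fppfPrecoverage 𝒳) (h𝒴 : IsAlgStack Scheme.fppfPrecoverage 𝒴)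
    {f : 𝒳 ⥤ᵇ 𝒴} (hf : AlgSt.LocQ (AlgSp.LocP @LocallyOfFiniteType) f) :
    AlgSt.LocQ (AlgSp.LocP @LocallyOfFinitePresentation) (FibCat.diag f) :=
  locQ_lfp_of_comp h𝒳 (isAlgStack_fp h𝒳 h𝒳 h𝒴 f f) h𝒳
    (show AlgSt.LocQ (AlgSp.LocP @LocallyOfFinitePresentation)
        (BasedFunctor.comp (FibCat.diag f) (FibCat.fpFst f f)) from locQ_id Groth.L23.etLocal_lfp h𝒳)
    (locQ_fpFst isSmoothLocalST_lft (pBase_locP Groth.L23.etLocal_lft) h𝒳 h𝒴 h𝒳 f hf)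

/-- Descent along an fppf surjective functor on the source. -/
theorem locQ_right_of_fppf {Q : MorphismProperty Scheme.{u}} (hQ : Groth.L23.EtLocal Q)
    (hP : AlgSp.IsSmoothLocalST (AlgSp.LocP Q : MorphismProperty (AlgSp.Sp S)))
    (hdesc : ∀ {A B C : Scheme.{u}} (a : A ⟶ B) (b : B ⟶ C) [Flat a] [LocallyOfFinitePresentation a] [Surjective a],
      Q (a ≫ b) → Q b)
    (h𝒳 : IsAlgStack Scheme.fppfPrecoverage 𝒳) (h𝒴 : IsAlgStack Scheme.fppfPrecoverage 𝒴)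
    (h𝒵 : IsAlgStack Scheme.fppfPrecoverage 𝒵) {f : 𝒳 ⥤ᵇ 𝒴} {g : 𝒴 ⥤ᵇ 𝒵}
    (hf₁ : AlgSt.LocQ (AlgSp.LocP @Flat) f) (hf₂ : AlgSt.LocQ (AlgSp.LocP @LocallyOfFinitePresentation) f)
    (hf₃ : IsSurjective f) (hfg : AlgSt.LocQ (AlgSp.LocP Q) (BasedFunctor.comp f g)) :
    AlgSt.LocQ (AlgSp.LocP Q) g :=
  locQ_right_of_comp hP h𝒳 h𝒴 h𝒵 hf₃ (fun _ _ _ _ _ h k hy hℓ i hs hh => by
    have : Flat h.left := prop_of_locP_map (prop_of_chart isSmoothLocalST_flat h𝒳.isStack.1 h𝒴.isStack.1 hf₁ hy hℓ i)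
    have : LocallyOfFinitePresentation h.left :=
      prop_of_locP_map (prop_of_chart isSmoothLocalST_lfp h𝒳.isStack.1 h𝒴.isStack.1 hf₂ hy hℓ i)
    have : Surjective h.left := ⟨hs⟩
    refine (locP_map_iff hQ k).2 (hdesc h.left k.left ?_)
    rw [← Over.comp_left]
    exact prop_of_locP_map hh) hfg

theorem locQ_flat_right (h𝒳 : IsAlgStack Scheme.fppfPrecoverage 𝒳) (h𝒴 : IsAlgStack Scheme.fppfPrecoverage 𝒴)
    (h𝒵 : IsAlgStack Scheme.fppfPrecoverage 𝒵) {f : 𝒳 ⥤ᵇ 𝒴} {g : 𝒴 ⥤ᵇ 𝒵}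
    (hf₁ : AlgSt.LocQ (AlgSp.LocP @Flat) f) (hf₃ : IsSurjective f)
    (hfg : AlgSt.LocQ (AlgSp.LocP @Flat) (BasedFunctor.comp f g)) : AlgSt.LocQ (AlgSp.LocP @Flat) g :=
  locQ_right_of_comp isSmoothLocalST_flat h𝒳 h𝒴 h𝒵 hf₃ (fun _ _ _ _ _ h k hy hℓ i hs hh => by
    have : Flat h.left := prop_of_locP_map (prop_of_chart isSmoothLocalST_flat h𝒳.isStack.1 h𝒴.isStack.1 hf₁ hy hℓ i)
    have : Surjective h.left := ⟨hs⟩
    refine (locP_map_iff Groth.L23.etLocal_flat k).2 (flat_of_comp_surjective h.left k.left ?_)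
    rw [← Over.comp_left]
    exact prop_of_locP_map hh) hfg

end Groth.L24.LocQ
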