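import Groth.Agent.L24.LocQ.Descent
import Groth.Agent.L24.St.ChartTop

/-!
Descent of properties of representable functors along fppf functors read on charts; openness.
-/

set_option autoImplicit false
set_option backward.isDefEq.respectTransparency false
set_option backward.isDefEq.respectTransparency.types false

universe u

open CategoryTheory CategoryTheory.Limits AlgebraicGeometry Opposite AlgSt

noncomputable section

namespace Groth.L24.LocQ

open Groth.L24.St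

variable {S : Scheme.{u}} {P : MorphismProperty (AlgSp.Sp S)} {𝒳 𝒴 𝒵 : AlgSt.Cat S}

/-- A property of representable functors descends along flat, lfp, surjective functors read on charts. -/
theorem repWith_of_fpFst_locQ (hB : PBase P) (hL : AlgSp.IsLocalOnBase AlgSp.IsFppfCover P)
    (h𝒳 : IsAlgStack Scheme.fppfPrecoverage 𝒳) (h𝒴 : IsAlgStack Scheme.fppfPrecoverage 𝒴)
    (h𝒵 : IsAlgStack Scheme.fppfPrecoverage 𝒵) {f : 𝒳 ⥤ᵇ 𝒴} (hf : RepByAlgSp1 f) {z : 𝒵 ⥤ᵇ 𝒴}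
    (hz₁ : AlgSt.LocQ (AlgSp.LocP @Flat) z) (hz₂ : AlgSt.LocQ (AlgSp.LocP @LocallyOfFinitePresentation) z)
    (hz₃ : IsSurjective z) (h : RepByAlgSpWith P (FibCat.fpFst z f)) : RepByAlgSpWith P f := by
  obtain ⟨V, y, hy, hys⟩ := h𝒴.atlas
  obtain ⟨W, m, k, hm, hms, ⟨j⟩, hy', ⟨κ⟩, hys'⟩ := exists_chart h𝒵 h𝒴 z y hy
  have hW := overCat_isFibGrpd W
  have hV := overCat_isFibGrpd V
  have hc₁ : RepByAlgSpWith (AlgSp.LocP @Flat) (BasedFunctor.comp (overMap k) y) :=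
    repWith_comp_locP Groth.L23.etLocal_flat hW hV
      (repWith_mono (fun _ _ _ _ h => Groth.L23.locP_of_repWith Groth.L23.etLocal_flat h) (repWith_overMap (R := @Flat)
        (prop_of_locP_map (prop_of_chart isSmoothLocalST_flat h𝒵.isStack.1 h𝒴.isStack.1 hz₁ hy hm j))))
      (repWith_mono (fun _ _ _ _ h => Groth.L23.locP_mono
        (fun φ (hφ : Smooth φ) => have := hφ; (inferInstance : Flat φ)) h) hy)
  have hc₂ : RepByAlgSpWith (AlgSp.LocP @LocallyOfFinitePresentation) (BasedFunctor.comp (overMap k) y) :=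
    repWith_comp_locP Groth.L23.etLocal_lfp hW hV
      (repWith_mono (fun _ _ _ _ h => Groth.L23.locP_of_repWith Groth.L23.etLocal_lfp h)
        (repWith_overMap (R := @LocallyOfFinitePresentation)
        (prop_of_locP_map (prop_of_chart isSmoothLocalST_lfp h𝒵.isStack.1 h𝒴.isStack.1 hz₂ hy hm j))))
      (repWith_mono (fun _ _ _ _ h => Groth.L23.locP_mono
        (fun φ (hφ : Smooth φ) => have := hφ; (inferInstance : LocallyOfFinitePresentation φ)) h) hy)
  have hc₃ : RepByAlgSpWith AlgSp.IsSurjectiveMor (BasedFunctor.comp (overMap k) y) :=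
    repWith_surjective_of_isSurjective hW h𝒴.isStack.1 (repWith_rep1 hc₁)
      (isSurjective_congr κ (isSurjective_comp
        (isSurjective_of_repWith hW h𝒵.isStack.1 (hys' hys)) hz₃))
  refine repWith_of_fpFst_cover hasAtlasCovers_fppf hB hL (fun _ _ _ h => h) h𝒳.isStack.1 h𝒴.isStack.1 hW hf
    hc₁ hc₂ hc₃ ?_
  let y' := BasedFunctor.comp m (FibCat.fpFst z y)
  let M := fpMap (F := BasedFunctor.comp y' z) (G := f) (F' := BasedFunctor.comp (overMap k) y) (G' := f)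
    (BasedFunctor.id _) (BasedFunctor.id _) κ (Iso.refl _)
  obtain ⟨c, hc, -, ⟨ic⟩⟩ := exists_inverse (fpPaste_isEquivOver y' z f)
  have e : RepByAlgSpWith P (FibCat.fpFst (BasedFunctor.comp y' z) f) :=
    (repWith_precomp (fpPaste_isEquivOver y' z f) _).1 (repWith_fpFst y' h)
  have hM : FibCat.IsEquivOver M := fpMap_isEquivOver (isEquivOver_id _) (isEquivOver_id _) _ _
  exact (repWith_precomp hM (FibCat.fpFst (BasedFunctor.comp y' z) f)).2 e

theorem repWith_iff_fpFst_locQ (hB : PBase P) (hL : AlgSp.IsLocalOnBase AlgSp.IsFppfCover P)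
    (h𝒳 : IsAlgStack Scheme.fppfPrecoverage 𝒳) (h𝒴 : IsAlgStack Scheme.fppfPrecoverage 𝒴)
    (h𝒵 : IsAlgStack Scheme.fppfPrecoverage 𝒵) {f : 𝒳 ⥤ᵇ 𝒴} (hf : RepByAlgSp1 f) {z : 𝒵 ⥤ᵇ 𝒴}
    (hz₁ : AlgSt.LocQ (AlgSp.LocP @Flat) z) (hz₂ : AlgSt.LocQ (AlgSp.LocP @LocallyOfFinitePresentation) z)
    (hz₃ : IsSurjective z) : RepByAlgSpWith P f ↔ RepByAlgSpWith P (FibCat.fpFst z f) :=
  ⟨repWith_fpFst z, repWith_of_fpFst_locQ hB hL h𝒳 h𝒴 h𝒵 hf hz₁ hz₂ hz₃⟩

theorem isOpenMor_of_flat_lfp (h𝒳 : IsAlgStack Scheme.fppfPrecoverage 𝒳) (h𝒴 : IsAlgStack Scheme.fppfPrecoverage 𝒴)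
    {f : 𝒳 ⥤ᵇ 𝒴} (h₁ : AlgSt.LocQ (AlgSp.LocP @Flat) f)
    (h₂ : AlgSt.LocQ (AlgSp.LocP @LocallyOfFinitePresentation) f) : IsOpenMor f := by
  obtain ⟨V, y, hy, hys⟩ := h𝒴.atlas
  obtain ⟨U, ℓ, k, hℓ, -, ⟨i⟩, hx, ⟨α⟩, hxs⟩ := exists_chart h𝒳 h𝒴 f y hy
  have : Flat k.left := prop_of_locP_map (prop_of_chart isSmoothLocalST_flat h𝒳.isStack.1 h𝒴.isStack.1 h₁ hy hℓ i)
  have : LocallyOfFinitePresentation k.left :=
    prop_of_locP_map (prop_of_chart isSmoothLocalST_lfp h𝒳.isStack.1 h𝒴.isStack.1 h₂ hy hℓ i)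
  have hk : IsOpenMap k.left := k.left.isOpenMap
  let x := BasedFunctor.comp ℓ (FibCat.fpFst f y)
  intro O hO
  have hO' : Points.map f '' O = Points.ofChart y '' (k.left '' (Points.ofChart x ⁻¹' O)) := by
    have key : Points.map f ∘ Points.ofChart x = Points.ofChart y ∘ k.left := by
      funext t
      show Points.ofChart (BasedFunctor.comp x f) t = _
      rw [ofChart_congr α]
      exact ofChart_overMap_comp k y t
    conv_lhs => rw [← Set.image_preimage_eq O (surjective_ofChart_of_repWith h𝒳.isStack.1 (hxs hys))]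
    rw [← Set.image_comp, key, Set.image_comp]
  rw [hO']
  exact isOpenMap_ofChart (Q := @Smooth) isOpenMap_of_smooth h𝒴.isStack.1 hy _
    (hk _ (hO.preimage (continuous_ofChart h𝒳 x)))

end Groth.L24.LocQ
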