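import Groth.Agent.L24.LocQ.Spaces

/-!
Characterisations of properties smooth local on the source and target.
-/

set_option autoImplicit false
set_option backward.isDefEq.respectTransparency false
set_option backward.isDefEq.respectTransparency.types false

universe u

open CategoryTheory CategoryTheory.Limits AlgebraicGeometry Opposite AlgSp

noncomputable section

namespace Groth.L24.LocQ

variable {S : Scheme.{u}} {P : MorphismProperty (Sp S)}

theorem locP_smooth_of_isIso {X Y : Sp S} (a : X ⟶ Y) [IsIso a] : LocP @Smooth a :=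
  locP_etale_smooth (Groth.L23.repWith_of_isIso a)

theorem smoothST_postcomp (hP : IsSmoothLocalST P) {X Y Z : Sp S} (hX : IsAlgSpace X) (hY : IsAlgSpace Y)
    (hZ : IsAlgSpace Z) (f : X ⟶ Y) (g : Y ⟶ Z) (hf : P f) (hg : LocP @Smooth g) : P (f ≫ g) :=
  (hP.locality hX hZ _).2 fun x => ⟨X, Y, 𝟙 X, g, f, x, hX, hY, locP_smooth_of_isIso _, hg,
    Category.id_comp _, Points.map_id x, hf⟩

theorem smoothST_localOnSource (hP : IsSmoothLocalST P) : IsLocalOnSource (IsSmCover (S := S)) P :=
  fun _ X Xi g hX hXi hτ Y f hY => ⟨fun hf i => hP.precomp (hXi i) hX hY _ _ (hτ.1 i) hf, fun H =>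
    (hP.locality hX hY f).2 fun x => by
      obtain ⟨i, v, hv⟩ := hτ.2 x
      exact ⟨Xi i, Y, g i, 𝟙 Y, g i ≫ f, v, hXi i, hY, hτ.1 i, locP_smooth_of_isIso _,
        (Category.comp_id _).symm, hv, H i⟩⟩

theorem smoothST_localOnBase (hP : IsSmoothLocalST P) : IsLocalOnBase (IsSmCover (S := S)) P :=
  fun _ Y Yi g hY hYi hτ X f hX Xi p q hXi sq => ⟨fun hf i =>
    hP.baseChange hX hY (hXi i) (hYi i) f (g i) (p i) (q i) (sq i) (hτ.1 i) hf, fun H =>
    (hP.locality hX hY f).2 fun x => by
      obtain ⟨i, y, hy⟩ := hτ.2 (Points.map f x)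
      obtain ⟨w, hw, -⟩ := Groth.L23.exists_of_isPullback (sq i) x y hy.symm
      exact ⟨Xi i, Yi i, q i, g i, p i, w, hXi i, hYi i,
        Groth.L23.locP_of_isPullback Groth.L23.etLocal_smooth (hYi i) hY hX (sq i).flip (hτ.1 i),
        hτ.1 i, (sq i).w, hw, H i⟩⟩

/-- The covering by a smooth morphism and the identity. -/
theorem isSmCover_option {X X' : Sp S} (g : X' ⟶ X) (hg : LocP @Smooth g) :
    IsSmCover (ι := Option PUnit.{u + 1}) (fun i => i.elim X fun _ => X')
      (fun i => match i with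
        | none => 𝟙 X
        | some _ => g) :=
  ⟨fun i => match i with
    | none => locP_smooth_of_isIso (𝟙 X)
    | some _ => hg, fun x => ⟨none, x, Points.map_id x⟩⟩

theorem smoothST_of_local (h1 : IsLocalOnSource (IsSmCover (S := S)) P)
    (h2 : IsLocalOnBase (IsSmCover (S := S)) P)
    (h3 : ∀ ⦃X Y Z : Sp S⦄, IsAlgSpace X → IsAlgSpace Y → IsAlgSpace Z → ∀ (f : X ⟶ Y) (g : Y ⟶ Z),
      P f → LocP @Smooth g → P (f ≫ g)) : IsSmoothLocalST P where
  precomp X Y Z hX hY hZ f g hf hg :=
    (h1 _ _ hY (fun i => match i with | none => hY | some _ => hX) (isSmCover_option f hf) g hZ).1 hg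
      (some PUnit.unit)
  baseChange X Y X' Y' hX hY hX' hY' f g f' g' sq hg hf :=
    (h2 _ _ hY (fun i => match i with | none => hY | some _ => hY') (isSmCover_option g hg) f hX
      (fun i => i.elim X fun _ => X') (fun i => match i with | none => f | some _ => f')
      (fun i => match i with | none => 𝟙 X | some _ => g')
      (fun i => match i with | none => hX | some _ => hX')
      (fun i => match i with | none => (show IsPullback (𝟙 X) f f (𝟙 Y) from IsPullback.of_horiz_isIso ⟨by simp⟩) | some _ => sq)).1 hf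
      (some PUnit.unit)
  locality X Y hX hY f := by
    refine ⟨fun hf x => ⟨X, Y, 𝟙 X, 𝟙 Y, f, x, hX, hY, locP_smooth_of_isIso _, locP_smooth_of_isIso _,
      by simp, Points.map_id x, hf⟩, fun H => ?_⟩
    obtain ⟨U₀, c, hc, hcs⟩ := hX.atlas
    choose U V a b h v hU hV ha hb w hv hh using fun t : ↥U₀.left => H (Points.ofPt c t)
    refine (h1 U a hX hU ⟨ha, fun x => ?_⟩ f hY).2 fun t => ?_
    · obtain ⟨t, rfl⟩ := Groth.L23.surjective_ofPt hcs x
      exact ⟨t, v t, hv t⟩
    · rw [w t]
      exact h3 (hU t) (hV t) hY (h t) (b t) (hh t) (hb t)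

end Groth.L24.LocQ
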