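import Groth.Agent.L24.LocQ.Calculus
import Groth.Agent.L24.St.MapLegs

/-!
Base change of charts; base change and descent of properties smooth local on source and target.
-/

set_option autoImplicit false
set_option backward.isDefEq.respectTransparency false
set_option backward.isDefEq.respectTransparency.types false

universe u

open CategoryTheory CategoryTheory.Limits AlgebraicGeometry Opposite AlgSt

noncomputable section

namespace Groth.L24.LocQ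

open Groth.L24.St

variable {S : Scheme.{u}} {P : MorphismProperty (AlgSp.Sp S)} {𝒳 𝒴 𝒵 : AlgSt.Cat S}

/-- The base change of a chart along a map of charts of the targets. -/
theorem exists_chart_baseChange {f : 𝒳 ⥤ᵇ 𝒴} {g : 𝒵 ⥤ᵇ 𝒴} {U V V' : Over S} {y : FibCat.overCat V ⥤ᵇ 𝒴}
    {y' : FibCat.overCat V' ⥤ᵇ 𝒵} {k : V' ⟶ V} (κ : BasedFunctor.comp y' g ≅ BasedFunctor.comp (overMap k) y)
    {ℓ : FibCat.overCat U ⥤ᵇ FibCat.fp f y} {h : U ⟶ V} (i : BasedFunctor.comp ℓ (FibCat.fpSnd f y) ≅ overMap h) :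
    ∃ L : FibCat.overCat (pullback h k) ⥤ᵇ FibCat.fp (FibCat.fpFst g f) y',
      (∀ {Q : MorphismProperty (AlgSp.Sp S)}, RepByAlgSpWith Q ℓ → RepByAlgSpWith Q L) ∧
      Nonempty (BasedFunctor.comp L (FibCat.fpSnd (FibCat.fpFst g f) y') ≅ overMap (pullback.snd h k)) := by
  let sq := ((IsPullback.of_hasPullback h k).map (AlgSp.yon S)).map (sheafToPresheaf (AlgSp.J S) (Type (u + 1)))
  let A := pshFp sq.w
  let B := fpPost (ofSpMap ((AlgSp.yon S).map h)) (ofSpMap ((AlgSp.yon S).map k)) (toOverCat V)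
  let C := fpMap (F := overMap h) (G := overMap k)
    (F' := BasedFunctor.comp (ofSpMap ((AlgSp.yon S).map h)) (toOverCat V))
    (G' := BasedFunctor.comp (ofSpMap ((AlgSp.yon S).map k)) (toOverCat V))
    (toOverCat U) (toOverCat V') (yonToOverIso h).symm (yonToOverIso k).symm
  let E0 := BasedFunctor.comp (ofOverCat (pullback h k)) (BasedFunctor.comp A (BasedFunctor.comp B C))
  have hE0 : FibCat.IsEquivOver E0 := isEquivOver_comp (ofOverCat_isEquivOver _)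
    (isEquivOver_comp (pshFp_isEquivOver sq) (isEquivOver_comp (fpPost_isEquivOver _ _ (toOverCat_isEquivOver V))
      (fpMap_isEquivOver (toOverCat_isEquivOver U) (toOverCat_isEquivOver V') _ _)))
  let L1 := legL (F := FibCat.fpSnd f y) (G := overMap k) ℓ i
  let S1 := fpSwap (F := FibCat.fpSnd f y) (G := overMap k)
  let M1 := fpMap (F := overMap k) (G := FibCat.fpFst y f) (F' := overMap k) (G' := FibCat.fpSnd f y)
    (BasedFunctor.id _) (fpSwap (F := f) (G := y)) (Iso.refl _) (Iso.refl _)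
  let M2 := fpMap (F := BasedFunctor.comp y' g) (G := f) (F' := BasedFunctor.comp (overMap k) y) (G' := f)
    (BasedFunctor.id _) (BasedFunctor.id _) κ (Iso.refl _)
  obtain ⟨c, hc, -, ⟨ic⟩⟩ := exists_inverse (fpPaste_isEquivOver y' g f)
  let E1 := BasedFunctor.comp (BasedFunctor.comp S1 (BasedFunctor.comp M1
    (BasedFunctor.comp (fpPaste (overMap k) y f) M2))) (BasedFunctor.comp c fpSwap)
  have hE1 : FibCat.IsEquivOver E1 := isEquivOver_comp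
    (isEquivOver_comp fpSwap_isEquivOver (isEquivOver_comp
      (fpMap_isEquivOver (isEquivOver_id _) fpSwap_isEquivOver _ _)
      (isEquivOver_comp (fpPaste_isEquivOver _ y f) (fpMap_isEquivOver (isEquivOver_id _) (isEquivOver_id _) _ _))))
    (isEquivOver_comp hc fpSwap_isEquivOver)
  refine ⟨BasedFunctor.comp (BasedFunctor.comp E0 L1) E1, fun hQ =>
    (repWith_postcomp hE1 _).2 ((repWith_precomp hE0 _).2 (legL_repWith hQ)), ⟨?_⟩⟩
  exact whiskerL (BasedFunctor.comp (BasedFunctor.comp E0 L1) (BasedFunctor.comp S1 (BasedFunctor.comp M1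
      (BasedFunctor.comp (fpPaste (overMap k) y f) M2))))
    (whiskerR ic (FibCat.fpFst (BasedFunctor.comp y' g) f))

/-- A smooth surjective chart over a smooth surjective chart of the target with the property. -/
theorem locQ_of_chart (h𝒳 : IsAlgStack Scheme.fppfPrecoverage 𝒳) (h𝒴 : IsAlgStack Scheme.fppfPrecoverage 𝒴)
    {f : 𝒳 ⥤ᵇ 𝒴} {U V : Over S} {y : FibCat.overCat V ⥤ᵇ 𝒴} (hy : RepByAlgSpWith (AlgSp.LocP @Smooth) y)
    (hys : RepByAlgSpWith AlgSp.IsSurjectiveMor y) {ℓ : FibCat.overCat U ⥤ᵇ FibCat.fp f y}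
    (hℓ : RepByAlgSpWith (AlgSp.LocP @Smooth) ℓ) (hℓs : RepByAlgSpWith AlgSp.IsSurjectiveMor ℓ) {h : U ⟶ V}
    (i : BasedFunctor.comp ℓ (FibCat.fpSnd f y) ≅ overMap h) (hh : P ((AlgSp.yon S).map h)) :
    AlgSt.LocQ P f := by
  have hfp := L09.Fib.fp_isFibGrpd h𝒳.isStack.1 (overCat_isFibGrpd V) h𝒴.isStack.1 (F := f) (G := y)
  have hx := repWith_comp_locP Groth.L23.etLocal_smooth (overCat_isFibGrpd U) hfp hℓ (repWith_fpFst f hy)
  exact ⟨U, V, _, y, h, whiskerL ℓ (FibCat.fpIso f y) ≪≫ whiskerR i y, hx,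
    repWith_surjective_of_isSurjective (overCat_isFibGrpd U) h𝒳.isStack.1 (repWith_rep1 hx)
      (isSurjective_comp (isSurjective_of_repWith (overCat_isFibGrpd U) hfp hℓs)
        (isSurjective_fpFst (overCat_isFibGrpd V) h𝒴.isStack.1 h𝒳.isStack.1 f
          (isSurjective_of_repWith (overCat_isFibGrpd V) h𝒴.isStack.1 hys))), hy, hh⟩

theorem locQ_fpFst (hP : AlgSp.IsSmoothLocalST P) (hB : PBase P) (h𝒳 : IsAlgStack Scheme.fppfPrecoverage 𝒳)
    (h𝒴 : IsAlgStack Scheme.fppfPrecoverage 𝒴) (h𝒵 : IsAlgStack Scheme.fppfPrecoverage 𝒵)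
    {f : 𝒳 ⥤ᵇ 𝒴} (g : 𝒵 ⥤ᵇ 𝒴) (hf : AlgSt.LocQ P f) : AlgSt.LocQ P (FibCat.fpFst g f) := by
  obtain ⟨V, y, hy, hys⟩ := h𝒴.atlas
  obtain ⟨V', m, k, -, -, -, hy', ⟨κ⟩, hys'⟩ := exists_chart h𝒵 h𝒴 g y hy
  obtain ⟨U, ℓ, h, hℓ, hℓs, ⟨i⟩, -, -, -⟩ := exists_chart h𝒳 h𝒴 f y hy
  obtain ⟨L, hL, ⟨j⟩⟩ := exists_chart_baseChange (f := f) κ i
  refine locQ_of_chart (isAlgStack_fp h𝒵 h𝒳 h𝒴 g f) h𝒵 hy' (hys' hys) (hL hℓ) (hL hℓs) j ?_
  exact hB (AlgSp.IsAlgSpace.yon_obj U) (AlgSp.IsAlgSpace.yon_obj V) (AlgSp.IsAlgSpace.yon_obj (pullback h k))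
    (AlgSp.IsAlgSpace.yon_obj V') _ _ _ _ ((IsPullback.of_hasPullback h k).map (AlgSp.yon S))
    (prop_of_chart hP h𝒳.isStack.1 h𝒴.isStack.1 hf hy hℓ i)

theorem surjective_of_overMap {U V : Over S} {h : U ⟶ V} (hs : IsSurjective (overMap h)) :
    Function.Surjective h.left := fun v => by
  obtain ⟨p, hp⟩ := hs (ptOver v)
  obtain ⟨u, rfl⟩ := (overPtEquiv U).symm.surjective p
  refine ⟨u, (overPtEquiv V).symm.injective ?_⟩
  show ptOver (h.left u) = ptOver v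
  rw [← map_overMap_ptOver]
  exact hp

theorem isSurjective_congr {f f' : 𝒳 ⥤ᵇ 𝒴} (e : f ≅ f') (h : IsSurjective f) : IsSurjective f' := fun z => by
  obtain ⟨x, rfl⟩ := h z
  exact ⟨x, by rw [map_congr e]⟩

/-- The map of charts over a surjective functor is surjective. -/
theorem surjective_chart {W : Over S} {V : Over S} (h𝒴 : FibCat.IsFibGrpd 𝒴.p) (h𝒵 : FibCat.IsFibGrpd 𝒵.p)
    {z : 𝒵 ⥤ᵇ 𝒴} (hz : IsSurjective z) {y : FibCat.overCat V ⥤ᵇ 𝒴} {m : FibCat.overCat W ⥤ᵇ FibCat.fp z y}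
    (hm : RepByAlgSpWith AlgSp.IsSurjectiveMor m) {k : W ⟶ V}
    (j : BasedFunctor.comp m (FibCat.fpSnd z y) ≅ overMap k) : Function.Surjective k.left := by
  refine surjective_of_overMap (isSurjective_congr j (isSurjective_comp
    (isSurjective_of_repWith (overCat_isFibGrpd W) (L09.Fib.fp_isFibGrpd h𝒵 (overCat_isFibGrpd V) h𝒴) hm) ?_))
  exact isSurjective_comp (f := fpSwap) (g := FibCat.fpFst y z) (isSurjective_of_isEquivOver fpSwap_isEquivOver)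
    (isSurjective_fpFst h𝒵 h𝒴 (overCat_isFibGrpd V) y hz)

/-- Descent along a covering of charts. -/
theorem locQ_of_fpFst (hP : AlgSp.IsSmoothLocalST P)
    (h𝒳 : IsAlgStack Scheme.fppfPrecoverage 𝒳) (h𝒴 : IsAlgStack Scheme.fppfPrecoverage 𝒴)
    (h𝒵 : IsAlgStack Scheme.fppfPrecoverage 𝒵) {f : 𝒳 ⥤ᵇ 𝒴} {z : 𝒵 ⥤ᵇ 𝒴} (hz : IsSurjective z)
    (hdesc : ∀ ⦃U W V : Over S⦄ ⦃y : FibCat.overCat V ⥤ᵇ 𝒴⦄ ⦃m : FibCat.overCat W ⥤ᵇ FibCat.fp z y⦄ (h : U ⟶ V)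
      ⦃k : W ⟶ V⦄, RepByAlgSpWith (AlgSp.LocP @Smooth) y → RepByAlgSpWith (AlgSp.LocP @Smooth) m →
      (BasedFunctor.comp m (FibCat.fpSnd z y) ≅ overMap k) → Function.Surjective k.left →
      P ((AlgSp.yon S).map (pullback.snd h k)) → P ((AlgSp.yon S).map h))
    (h : AlgSt.LocQ P (FibCat.fpFst z f)) : AlgSt.LocQ P f := by
  obtain ⟨V, y, hy, hys⟩ := h𝒴.atlas
  obtain ⟨W, m, k, hm, hms, ⟨j⟩, hy', ⟨κ⟩, -⟩ := exists_chart h𝒵 h𝒴 z y hy
  obtain ⟨U, ℓ, h', hℓ, hℓs, ⟨i⟩, -, -, -⟩ := exists_chart h𝒳 h𝒴 f y hy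
  obtain ⟨L, hL', ⟨j'⟩⟩ := exists_chart_baseChange (f := f) κ i
  refine locQ_of_chart h𝒳 h𝒴 hy hys hℓ hℓs i ?_
  exact hdesc h' hy hm j (surjective_chart h𝒴.isStack.1 h𝒵.isStack.1 hz hms j)
    (prop_of_chart hP (isAlgStack_fp h𝒵 h𝒳 h𝒴 z f).isStack.1 h𝒵.isStack.1 h hy' (hL' hℓ) j')

/-- A singleton covering by schemes read on the base change of a map of schemes. -/
theorem prop_of_cover {τ : AlgSp.CovNotion S} (hL : AlgSp.IsLocalOnBase τ P) {U W V : Over S} (h : U ⟶ V) (k : W ⟶ V)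
    (hτ : τ (ι := PUnit.{u + 1}) (fun _ => (AlgSp.yon S).obj W) (fun _ => (AlgSp.yon S).map k))
    (hh : P ((AlgSp.yon S).map (pullback.snd h k))) : P ((AlgSp.yon S).map h) :=
  (hL (fun _ : PUnit => (AlgSp.yon S).obj W) (fun _ => (AlgSp.yon S).map k)
    (AlgSp.IsAlgSpace.yon_obj V) (fun _ => AlgSp.IsAlgSpace.yon_obj W) hτ _ (AlgSp.IsAlgSpace.yon_obj U)
    (fun _ => (AlgSp.yon S).obj (pullback h k)) (fun _ => (AlgSp.yon S).map (pullback.snd h k))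
    (fun _ => (AlgSp.yon S).map (pullback.fst h k)) (fun _ => AlgSp.IsAlgSpace.yon_obj (pullback h k))
    (fun _ => (IsPullback.of_hasPullback h k).map (AlgSp.yon S))).2 fun _ => hh

end Groth.L24.LocQ
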