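import Groth.Agent.L24.LocQ.Spaces

/-!
Composition, charts, and representable functors for properties smooth local on the source and target.
-/

set_option autoImplicit false
set_option backward.isDefEq.respectTransparency false
set_option backward.isDefEq.respectTransparency.types false

universe u

open CategoryTheory CategoryTheory.Limits AlgebraicGeometry Opposite AlgSt

noncomputable section

namespace Groth.L24.LocQ

open Groth.L24.St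

variable {S : Scheme.{u}} {P : MorphismProperty (AlgSp.Sp S)} {𝒳 𝒴 𝒵 : AlgSt.Cat S}

theorem locQ_iff_forall (hP : AlgSp.IsSmoothLocalST P) (h𝒳 : IsAlgStack Scheme.fppfPrecoverage 𝒳)
    (h𝒴 : IsAlgStack Scheme.fppfPrecoverage 𝒴) (f : 𝒳 ⥤ᵇ 𝒴) :
    AlgSt.LocQ P f ↔
      ∀ (U V : Over S) (x : FibCat.overCat U ⥤ᵇ 𝒳) (y : FibCat.overCat V ⥤ᵇ 𝒴) (h : U ⟶ V)
        (α : BasedFunctor.comp x f ≅ BasedFunctor.comp (AlgSt.overMap h) y),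
        RepByAlgSpWith (AlgSp.LocP @Smooth) x → RepByAlgSpWith (AlgSp.LocP @Smooth) y →
        RepByAlgSpWith (AlgSp.LocP @Smooth) (FibCat.fpLift x (AlgSt.overMap h) α) → P ((AlgSp.yon S).map h) := by
  refine ⟨fun hf U V x y h α _ hy hℓ => prop_of_chart hP h𝒳.isStack.1 h𝒴.isStack.1 hf hy hℓ (h' := h) (Iso.refl _),
    fun H => ?_⟩
  obtain ⟨V, y, hy, hys⟩ := h𝒴.atlas
  obtain ⟨U, ℓ, h, hℓ, -, ⟨i⟩, hx, -, hxs⟩ := exists_chart h𝒳 h𝒴 f y hy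
  exact ⟨U, V, _, y, h, whiskerL ℓ (FibCat.fpIso f y) ≪≫ whiskerR i y, hx, hxs hys, hy,
    H U V _ y h _ hx hy ((repWith_congr (fpLiftProjIso ℓ i)).2 hℓ)⟩

theorem exists_overMap_comp {U V W : Over S} (h : U ⟶ V) (k : V ⟶ W) :
    Nonempty (BasedFunctor.comp (overMap h) (overMap k) ≅ overMap (h ≫ k)) := by
  obtain ⟨ψ, ⟨i⟩, hψ⟩ := exists_overMap_iso (BasedFunctor.comp (overMap h) (overMap k))
  have e : ψ = h ≫ k := (AlgSp.yon S).map_injective (by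
    rw [← hψ, show BasedFunctor.comp (toOverCat U) (BasedFunctor.comp (overMap h) (overMap k)) =
      BasedFunctor.comp (BasedFunctor.comp (toOverCat U) (overMap h)) (overMap k) from rfl,
      spMapOfOver_overMap, spMapOfOver_overMap, spMapOfOver_toOverCat, Category.id_comp, Functor.map_comp])
  exact ⟨e ▸ i⟩

theorem locQ_comp (hP : AlgSp.IsSmoothLocalST P)
    (hPc : ∀ ⦃X Y Z : AlgSp.Sp S⦄, AlgSp.IsAlgSpace X → AlgSp.IsAlgSpace Y → AlgSp.IsAlgSpace Z →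
      ∀ (a : X ⟶ Y) (b : Y ⟶ Z), P a → P b → P (a ≫ b))
    (h𝒳 : IsAlgStack Scheme.fppfPrecoverage 𝒳) (h𝒴 : IsAlgStack Scheme.fppfPrecoverage 𝒴)
    (h𝒵 : IsAlgStack Scheme.fppfPrecoverage 𝒵) {f : 𝒳 ⥤ᵇ 𝒴} {g : 𝒴 ⥤ᵇ 𝒵}
    (hf : AlgSt.LocQ P f) (hg : AlgSt.LocQ P g) : AlgSt.LocQ P (BasedFunctor.comp f g) := by
  obtain ⟨W, z, hz, hzs⟩ := h𝒵.atlas
  obtain ⟨V, m, k, hm, -, ⟨j⟩, hy, ⟨β⟩, hys⟩ := exists_chart h𝒴 h𝒵 g z hz
  obtain ⟨U, ℓ, h, hℓ, -, ⟨i⟩, hx, ⟨α⟩, hxs⟩ := exists_chart h𝒳 h𝒴 f _ hy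
  obtain ⟨c⟩ := exists_overMap_comp h k
  refine ⟨U, W, _, z, h ≫ k, whiskerR α g ≪≫ whiskerL (overMap h) β ≪≫ whiskerR c z, hx, hxs (hys hzs), hz, ?_⟩
  rw [Functor.map_comp]
  exact hPc (AlgSp.IsAlgSpace.yon_obj U) (AlgSp.IsAlgSpace.yon_obj V) (AlgSp.IsAlgSpace.yon_obj W) _ _
    (prop_of_chart hP h𝒳.isStack.1 h𝒴.isStack.1 hf hy hℓ i)
    (prop_of_chart hP h𝒴.isStack.1 h𝒵.isStack.1 hg hz hm j)

/-- A scheme chart of a functor representable by algebraic spaces. -/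
theorem exists_rep_chart {f : 𝒳 ⥤ᵇ 𝒴} (h𝒳 : FibCat.IsFibGrpd 𝒳.p) (h𝒴 : FibCat.IsFibGrpd 𝒴.p) {V : Over S}
    {y : FibCat.overCat V ⥤ᵇ 𝒴} {F : AlgSp.Space S} {e : ofSp F.obj ⥤ᵇ FibCat.fp y f}
    (he : FibCat.IsEquivOver e) :
    ∃ (W : Over S) (a : (AlgSp.yon S).obj W ⟶ F.obj) (k : W ⟶ V) (ℓ : FibCat.overCat W ⥤ᵇ FibCat.fp f y),
      AlgSp.RepWith @Etale a ∧ AlgSp.RepWith @Surjective a ∧
        (AlgSp.yon S).map k = a ≫ spMapOfOver (BasedFunctor.comp e (FibCat.fpFst y f)) ∧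
        RepByAlgSpWith (AlgSp.LocP @Smooth) ℓ ∧ IsSurjective ℓ ∧
        Nonempty (BasedFunctor.comp ℓ (FibCat.fpSnd f y) ≅ overMap k) := by
  obtain ⟨W, a, ha, has⟩ := F.property.atlas
  let E := BasedFunctor.comp e (fpSwap (F := y) (G := f))
  have hE : FibCat.IsEquivOver E := isEquivOver_comp he fpSwap_isEquivOver
  let ℓ := BasedFunctor.comp (spChart a) E
  obtain ⟨k, ⟨ik⟩, hk⟩ := exists_overMap_iso (BasedFunctor.comp ℓ (FibCat.fpSnd f y))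
  refine ⟨W, a, k, ℓ, ha, has, ?_, (repWith_postcomp hE _).2 (smooth_spChart F.property ha),
    isSurjective_comp ((isSurjective_iff_ofChart _).2 (surjective_spChart has)) (isSurjective_of_isEquivOver hE),
    ⟨ik⟩⟩
  rw [← hk, ← spMapOfOver_ofSpMap_comp]
  rfl

/-- A functor representable by algebraic spaces with the property has it on charts. -/
theorem locQ_of_repWith (hpre : ∀ ⦃W : Over S⦄ ⦃F : AlgSp.Sp S⦄ ⦃V : Over S⦄ (a : (AlgSp.yon S).obj W ⟶ F)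
      (ν : F ⟶ (AlgSp.yon S).obj V), AlgSp.IsAlgSpace F → AlgSp.RepWith @Etale a → P ν → P (a ≫ ν))
    (h𝒳 : IsAlgStack Scheme.fppfPrecoverage 𝒳) (h𝒴 : IsAlgStack Scheme.fppfPrecoverage 𝒴)
    {f : 𝒳 ⥤ᵇ 𝒴} (hf : RepByAlgSpWith P f) : AlgSt.LocQ P f := by
  obtain ⟨V, y, hy, hys⟩ := h𝒴.atlas
  obtain ⟨F, e, he, hν⟩ := hf V y
  obtain ⟨W, a, k, ℓ, ha, has, hk, hℓ, hℓs, ⟨i⟩⟩ := exists_rep_chart h𝒳.isStack.1 h𝒴.isStack.1 he
  have hfp := L09.Fib.fp_isFibGrpd h𝒳.isStack.1 (overCat_isFibGrpd V) h𝒴.isStack.1 (F := f) (G := y)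
  have hx := repWith_comp_locP Groth.L23.etLocal_smooth (overCat_isFibGrpd W) hfp hℓ (repWith_fpFst f hy)
  refine ⟨W, V, _, y, k, whiskerL ℓ (FibCat.fpIso f y) ≪≫ whiskerR i y, hx,
    repWith_surjective_of_isSurjective (overCat_isFibGrpd W) h𝒳.isStack.1 (repWith_rep1 hx)
      (isSurjective_comp hℓs (isSurjective_fpFst (overCat_isFibGrpd V) h𝒴.isStack.1 h𝒳.isStack.1 f
        (isSurjective_of_repWith (overCat_isFibGrpd V) h𝒴.isStack.1 hys))), hy, ?_⟩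
  rw [hk]
  exact hpre a _ F.property ha hν

theorem repWith_of_locQ (hP : AlgSp.IsSmoothLocalST P) (hB : PBase P)
    (hL : AlgSp.IsLocalOnBase AlgSp.IsFppfCover P) (h𝒳 : IsAlgStack Scheme.fppfPrecoverage 𝒳)
    (h𝒴 : IsAlgStack Scheme.fppfPrecoverage 𝒴) {f : 𝒳 ⥤ᵇ 𝒴} (hf : RepByAlgSp1 f) (h : AlgSt.LocQ P f) :
    RepByAlgSpWith P f := by
  obtain ⟨V, y, hy, hys⟩ := h𝒴.atlas
  obtain ⟨F, e, he⟩ := hf V y
  obtain ⟨W, a, k, ℓ, ha, has, hk, hℓ, -, ⟨i⟩⟩ := exists_rep_chart h𝒳.isStack.1 h𝒴.isStack.1 he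
  let ν := spMapOfOver (BasedFunctor.comp e (FibCat.fpFst y f))
  have hν : P ν := by
    refine (hP.locality F.property (AlgSp.IsAlgSpace.yon_obj V) ν).2 fun x₀ => ?_
    obtain ⟨t, ht⟩ := Groth.L23.surjective_ofPt has x₀
    refine ⟨_, _, a, 𝟙 _, (AlgSp.yon S).map k, AlgSp.Points.ofScheme W t, AlgSp.IsAlgSpace.yon_obj W,
      AlgSp.IsAlgSpace.yon_obj V, locP_etale_smooth ha, locP_etale_smooth (Groth.L23.repWith_of_isIso _),
      (by rw [Category.comp_id, hk]), ?_, prop_of_chart hP h𝒳.isStack.1 h𝒴.isStack.1 h hy hℓ i⟩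
    rw [← AlgSp.Points.ofPt_eq_map_ofScheme]
    exact ht
  have sq : IsPullback (𝟙 F.obj) ν ν (𝟙 ((AlgSp.yon S).obj V)) := IsPullback.of_horiz_isIso ⟨by simp⟩
  obtain ⟨-, Θ, hΘ, ⟨iΘ⟩, -⟩ := exists_space_square' y e he (AlgSp.IsAlgSpace.yon_obj V) sq
  let w := BasedFunctor.comp (BasedFunctor.comp (ofSpMap (𝟙 ((AlgSp.yon S).obj V))) (toOverCat V)) y
  have hw : ∀ {Q : MorphismProperty (AlgSp.Sp S)}, RepByAlgSpWith Q y → RepByAlgSpWith Q w := fun hQ =>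
    (repWith_precomp (isEquivOver_comp (ofSpMap_isEquivOver _) (toOverCat_isEquivOver V)) y).2 hQ
  exact repWith_of_fpFst_cover hasAtlasCovers_fppf hB hL (fun _ _ _ h => h) h𝒳.isStack.1 h𝒴.isStack.1
    (ofSp_isFibGrpd _) hf
    (hw (repWith_mono (fun _ _ _ _ h => Groth.L23.locP_mono
      (fun φ (hφ : Smooth φ) => have := hφ; (inferInstance : Flat φ)) h) hy))
    (hw (repWith_mono (fun _ _ _ _ h => Groth.L23.locP_mono
      (fun φ (hφ : Smooth φ) => have := hφ; (inferInstance : LocallyOfFinitePresentation φ)) h) hy))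
    (hw hys) (repWith_fpFst_of_space (W := ⟨_, AlgSp.IsAlgSpace.yon_obj V⟩) (V := F) hB hΘ iΘ hν)

end Groth.L24.LocQ
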