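import Groth.Agent.L24.St.FpAlg
import Groth.Agent.L24.St.UnivProps
import Groth.Agent.L24.St.LocPStack
import Groth.Agent.L24.St.FlatCover
import Groth.Prelude.Def_AlgSpCov

/-!
Properties smooth local on the source and target, read on charts of functors between algebraic stacks.
-/

set_option autoImplicit false
set_option backward.isDefEq.respectTransparency false
set_option backward.isDefEq.respectTransparency.types false

universe u

open CategoryTheory CategoryTheory.Limits AlgebraicGeometry Opposite AlgSt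

noncomputable section

namespace Groth.L24.LocQ

open Groth.L24.St

variable {S : Scheme.{u}} {𝒳 𝒴 : AlgSt.Cat S}

theorem locP_spMapOfOver {R : MorphismProperty Scheme.{u}} (hR : Groth.L23.EtLocal R) {F : AlgSp.Sp S}
    (hF : AlgSp.IsAlgSpace F) {U : Over S} {Φ : ofSp F ⥤ᵇ FibCat.overCat U}
    (h : RepByAlgSpWith (AlgSp.LocP R) Φ) : AlgSp.LocP R (spMapOfOver Φ) :=
  prop_of_repWith hasAtlasCovers_atlasCov (pBase_locP hR) (isLocalOnBase_locP hR) hF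
    (AlgSp.IsAlgSpace.yon_obj U) _ ((repWith_congr (isoOfSpMap (BasedFunctor.comp Φ (ofOverCat U)))).1
      ((repWith_postcomp (ofOverCat_isEquivOver U) Φ).2 h))

theorem surjective_spMapOfOver {F : AlgSp.Sp S} {U : Over S} {Φ : ofSp F ⥤ᵇ FibCat.overCat U}
    (h : RepByAlgSpWith AlgSp.IsSurjectiveMor Φ) : AlgSp.IsSurjectiveMor (spMapOfOver Φ) :=
  (surjective_spMapOfOver_iff _).2 (isSurjective_of_repWith (ofSp_isFibGrpd F) (overCat_isFibGrpd U) h)

/-- A map of schemes read on the categories of the schemes and of their sheaves. -/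
def yonToOverIso {U V : Over S} (h : U ⟶ V) :
    BasedFunctor.comp (ofSpMap ((AlgSp.yon S).map h)) (toOverCat V) ≅ BasedFunctor.comp (toOverCat U) (overMap h) :=
  eqToIso rfl

/-- A square of spaces over a representable functor, with both projections. -/
theorem exists_space_square' {U : Over S} {f : 𝒳 ⥤ᵇ 𝒴} (y : FibCat.overCat U ⥤ᵇ 𝒴) {F : AlgSp.Space S}
    (e : ofSp F.obj ⥤ᵇ FibCat.fp y f) (he : FibCat.IsEquivOver e) {Z P : AlgSp.Sp S} (hZ : AlgSp.IsAlgSpace Z)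
    {g : Z ⟶ (AlgSp.yon S).obj U} {fst : P ⟶ F.obj} {snd : P ⟶ Z}
    (sq : IsPullback fst snd (spMapOfOver (BasedFunctor.comp e (FibCat.fpFst y f))) g) :
    AlgSp.IsAlgSpace P ∧ ∃ (Θ : ofSp P ⥤ᵇ FibCat.fp (BasedFunctor.comp (BasedFunctor.comp (ofSpMap g) (toOverCat U)) y) f),
      FibCat.IsEquivOver Θ ∧ Nonempty (BasedFunctor.comp Θ (FibCat.fpFst _ f) ≅ ofSpMap snd) ∧
        Nonempty (BasedFunctor.comp Θ (FibCat.fpSnd _ f) ≅
          BasedFunctor.comp (ofSpMap fst) (BasedFunctor.comp e (FibCat.fpSnd y f))) := by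
  let Φ := BasedFunctor.comp e (FibCat.fpFst y f)
  refine ⟨(isAlgSpace_pullback F.property hZ (AlgSp.IsAlgSpace.yon_obj U) _ g).of_iso sq.isoPullback.symm, ?_⟩
  have sq' := sq.flip.map (sheafToPresheaf (AlgSp.J S) (Type (u + 1)))
  let A := pshFp sq'.w
  let B := fpPost (ofSpMap g) (ofSpMap (spMapOfOver Φ)) (toOverCat U)
  have iν : Φ ≅ BasedFunctor.comp (ofSpMap (spMapOfOver Φ)) (toOverCat U) :=
    eqToIso (show Φ = BasedFunctor.comp (BasedFunctor.comp Φ (ofOverCat U)) (toOverCat U) from rfl) ≪≫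
    whiskerR (isoOfSpMap (BasedFunctor.comp Φ (ofOverCat U))) (toOverCat U)
  let c := BasedFunctor.comp (ofSpMap g) (toOverCat U)
  let C := fpMap (F := c) (G := FibCat.fpFst y f) (BasedFunctor.id _) e (Iso.refl c) iν
  exact ⟨BasedFunctor.comp A (BasedFunctor.comp B (BasedFunctor.comp C (fpPaste c y f))),
    isEquivOver_comp (pshFp_isEquivOver sq') (isEquivOver_comp (fpPost_isEquivOver _ _ (toOverCat_isEquivOver U))
      (isEquivOver_comp (fpMap_isEquivOver (isEquivOver_id _) he _ _) (fpPaste_isEquivOver c y f))),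
    ⟨Iso.refl _⟩, ⟨Iso.refl _⟩⟩

variable {P : MorphismProperty (AlgSp.Sp S)}

/-- The property holds on every smooth chart of a base change along a smooth chart of the target. -/
theorem prop_of_chart (hP : AlgSp.IsSmoothLocalST P) (h𝒳 : FibCat.IsFibGrpd 𝒳.p) (h𝒴 : FibCat.IsFibGrpd 𝒴.p)
    {f : 𝒳 ⥤ᵇ 𝒴} (hf : AlgSt.LocQ P f) {U' V' : Over S} {y' : FibCat.overCat V' ⥤ᵇ 𝒴}
    (hy' : RepByAlgSpWith (AlgSp.LocP @Smooth) y') {ℓ : FibCat.overCat U' ⥤ᵇ FibCat.fp f y'}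
    (hℓ : RepByAlgSpWith (AlgSp.LocP @Smooth) ℓ) {h' : U' ⟶ V'}
    (i' : BasedFunctor.comp ℓ (FibCat.fpSnd f y') ≅ overMap h') : P ((AlgSp.yon S).map h') := by
  obtain ⟨U, V, x, y, h, α, hx, hxs, hy, hPh⟩ := hf
  have hsm := Groth.L23.etLocal_smooth.{u}
  obtain ⟨G, e, he, hν⟩ := hy' V y
  let ν := spMapOfOver (BasedFunctor.comp e (FibCat.fpFst y y'))
  let p := spMapOfOver (BasedFunctor.comp e (FibCat.fpSnd y y'))
  have hp : AlgSp.LocP @Smooth p :=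
    locP_spMapOfOver hsm G.property ((repWith_precomp he _).2 (repWith_fpSnd y' hy))
  have sq := IsPullback.of_hasPullback ν ((AlgSp.yon S).map h)
  obtain ⟨hP0, Θ, hΘ, -, ⟨iΘ⟩⟩ := exists_space_square' y e he (AlgSp.IsAlgSpace.yon_obj U) sq
  have hfst : P (pullback.fst ν ((AlgSp.yon S).map h)) :=
    hP.baseChange (AlgSp.IsAlgSpace.yon_obj U) (AlgSp.IsAlgSpace.yon_obj V) hP0 G.property _ _ _ _ sq.flip hν hPh
  let xt := BasedFunctor.comp (toOverCat U) x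
  let j : BasedFunctor.comp (BasedFunctor.comp (ofSpMap ((AlgSp.yon S).map h)) (toOverCat V)) y ≅
      BasedFunctor.comp xt f :=
    whiskerR (yonToOverIso h) y ≪≫ whiskerL (toOverCat U) α.symm
  let M₀ := fpMap (F := BasedFunctor.comp xt f) (G := y')
    (F' := BasedFunctor.comp (BasedFunctor.comp (ofSpMap ((AlgSp.yon S).map h)) (toOverCat V)) y) (G' := y')
    (BasedFunctor.id _) (BasedFunctor.id _) j.symm (Iso.refl _)
  let L := legL (F := f) (G := y') xt (Iso.refl (BasedFunctor.comp xt f))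
  let M := BasedFunctor.comp Θ (BasedFunctor.comp M₀ L)
  have hM : ∀ {Q : MorphismProperty (AlgSp.Sp S)}, RepByAlgSpWith Q x → RepByAlgSpWith Q M := fun hQ =>
    (repWith_precomp hΘ _).2 ((repWith_precomp (fpMap_isEquivOver (isEquivOver_id _) (isEquivOver_id _) _ _) _).2
      (legL_repWith ((repWith_precomp (toOverCat_isEquivOver U) x).2 hQ)))
  obtain ⟨V₀, a, e₀, hV₀, he₀, ⟨i₀⟩, ha⟩ := exists_space_prop hasAtlasCovers_atlasCov (pBase_locP hsm)
    (isLocalOnBase_locP hsm) (overCat_isFibGrpd U') (L09.Fib.fp_isFibGrpd h𝒳 (overCat_isFibGrpd V') h𝒴)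
    hℓ hP0 M
  let r := spMapOfOver (BasedFunctor.comp e₀ (FibCat.fpSnd M ℓ))
  have hr : AlgSp.LocP @Smooth r :=
    locP_spMapOfOver hsm hV₀ ((repWith_precomp he₀ _).2 (repWith_fpSnd ℓ (hM hx)))
  have hrs : AlgSp.IsSurjectiveMor r :=
    surjective_spMapOfOver ((repWith_precomp he₀ _).2 (repWith_fpSnd ℓ (hM hxs)))
  have key : r ≫ (AlgSp.yon S).map h' = (a ≫ pullback.fst ν ((AlgSp.yon S).map h)) ≫ p := by
    rw [← spMapOfOver_overMap, Category.assoc, ← spMapOfOver_ofSpMap_comp, ← spMapOfOver_ofSpMap_comp]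
    exact spMapOfOver_congr
      (whiskerL (BasedFunctor.comp e₀ (FibCat.fpSnd M ℓ)) i'.symm ≪≫
        whiskerR (whiskerL e₀ (FibCat.fpIso M ℓ)).symm (FibCat.fpSnd f y') ≪≫
        whiskerR i₀ (BasedFunctor.comp M (FibCat.fpSnd f y')) ≪≫ whiskerL (ofSpMap a) iΘ)
  refine (hP.locality (AlgSp.IsAlgSpace.yon_obj U') (AlgSp.IsAlgSpace.yon_obj V') _).2 fun x₀ => ?_
  obtain ⟨v, hv⟩ := hrs x₀
  exact ⟨V₀, G.obj, r, p, a ≫ pullback.fst ν ((AlgSp.yon S).map h), v, hV₀, G.property, hr, hp, key, hv,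
    hP.precomp hV₀ hP0 G.property _ _ ha hfst⟩

/-- A chart of the source over a chart of the target. -/
theorem exists_chart (h𝒳 : IsAlgStack Scheme.fppfPrecoverage 𝒳) (h𝒴 : IsAlgStack Scheme.fppfPrecoverage 𝒴)
    (f : 𝒳 ⥤ᵇ 𝒴) {V : Over S} (y : FibCat.overCat V ⥤ᵇ 𝒴) (hy : RepByAlgSpWith (AlgSp.LocP @Smooth) y) :
    ∃ (U : Over S) (ℓ : FibCat.overCat U ⥤ᵇ FibCat.fp f y) (h : U ⟶ V),
      RepByAlgSpWith (AlgSp.LocP @Smooth) ℓ ∧ RepByAlgSpWith AlgSp.IsSurjectiveMor ℓ ∧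
        Nonempty (BasedFunctor.comp ℓ (FibCat.fpSnd f y) ≅ overMap h) ∧
        RepByAlgSpWith (AlgSp.LocP @Smooth) (BasedFunctor.comp ℓ (FibCat.fpFst f y)) ∧
        Nonempty (BasedFunctor.comp (BasedFunctor.comp ℓ (FibCat.fpFst f y)) f ≅ BasedFunctor.comp (overMap h) y) ∧
        (RepByAlgSpWith AlgSp.IsSurjectiveMor y →
          RepByAlgSpWith AlgSp.IsSurjectiveMor (BasedFunctor.comp ℓ (FibCat.fpFst f y))) := by
  have hfp := isAlgStack_fp h𝒳 (isAlgStack_overCat V) h𝒴 f y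
  obtain ⟨U, ℓ, hℓ, hℓs⟩ := hfp.atlas
  obtain ⟨h, ⟨iψ⟩, -⟩ := exists_overMap_iso (BasedFunctor.comp ℓ (FibCat.fpSnd f y))
  have hx := repWith_comp_locP Groth.L23.etLocal_smooth (overCat_isFibGrpd U) hfp.isStack.1 hℓ (repWith_fpFst f hy)
  refine ⟨U, ℓ, h, hℓ, hℓs, ⟨iψ⟩, hx, ⟨whiskerL ℓ (FibCat.fpIso f y) ≪≫ whiskerR iψ y⟩, fun hys => ?_⟩
  refine repWith_surjective_of_isSurjective (overCat_isFibGrpd U) h𝒳.isStack.1 (repWith_rep1 hx) ?_
  exact isSurjective_comp (isSurjective_of_repWith (overCat_isFibGrpd U) hfp.isStack.1 hℓs)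
    (isSurjective_fpFst (overCat_isFibGrpd V) h𝒴.isStack.1 h𝒳.isStack.1 f
      (isSurjective_of_repWith (overCat_isFibGrpd V) h𝒴.isStack.1 hys))

/-- It suffices to verify the property on all charts over one smooth surjective chart of the target. -/
theorem locQ_of_forall (h𝒳 : IsAlgStack Scheme.fppfPrecoverage 𝒳) (h𝒴 : IsAlgStack Scheme.fppfPrecoverage 𝒴)
    {f : 𝒳 ⥤ᵇ 𝒴} {V : Over S} {y : FibCat.overCat V ⥤ᵇ 𝒴} (hy : RepByAlgSpWith (AlgSp.LocP @Smooth) y)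
    (hys : RepByAlgSpWith AlgSp.IsSurjectiveMor y)
    (H : ∀ (U : Over S) (ℓ : FibCat.overCat U ⥤ᵇ FibCat.fp f y) (h : U ⟶ V),
      RepByAlgSpWith (AlgSp.LocP @Smooth) ℓ →
        (BasedFunctor.comp ℓ (FibCat.fpSnd f y) ≅ overMap h) → P ((AlgSp.yon S).map h)) :
    AlgSt.LocQ P f := by
  obtain ⟨U, ℓ, h, hℓ, -, ⟨i⟩, hx, ⟨α⟩, hxs⟩ := exists_chart h𝒳 h𝒴 f y hy
  exact ⟨U, V, _, y, h, α, hx, hxs hys, hy, H U ℓ h hℓ i⟩

/-- A functor to a fibre product is the lift of its projections, one of them up to isomorphism. -/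
def fpLiftProjIso {𝒲 𝒱 : AlgSt.Cat S} {f : 𝒳 ⥤ᵇ 𝒴} {y : 𝒱 ⥤ᵇ 𝒴} (ℓ : 𝒲 ⥤ᵇ FibCat.fp f y) {Ψ : 𝒲 ⥤ᵇ 𝒱}
    (i : BasedFunctor.comp ℓ (FibCat.fpSnd f y) ≅ Ψ) :
    FibCat.fpLift (BasedFunctor.comp ℓ (FibCat.fpFst f y)) Ψ
      (whiskerL ℓ (FibCat.fpIso f y) ≪≫ whiskerR i y) ≅ ℓ :=
  mkIso2 (fun z => fpIsoMk (Iso.refl _) (compApp i z).symm (by
      show f.map (𝟙 _) ≫ (ℓ.obj z).obj.iso.hom =
        ((ℓ.obj z).obj.iso.hom ≫ y.map (compApp i z).hom) ≫ y.map (compApp i z).inv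
      rw [Category.assoc, ← Functor.map_comp, Iso.hom_inv_id, CategoryTheory.Functor.map_id,
        CategoryTheory.Functor.map_id]
      exact (Category.id_comp _).trans (Category.comp_id _).symm))
    (fun z w m => fp_ext (show (ℓ.map m).hom.fst ≫ 𝟙 _ = 𝟙 _ ≫ (ℓ.map m).hom.fst by simp)
      (compApp_naturality_inv i m))
    (fun z => overId_fp _ (overId_id _))

end Groth.L24.LocQ
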