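import Groth.Agent.L24.LocQ.Engine

/-!
Properties smooth local on the source and target read on charts by algebraic spaces.
-/

set_option autoImplicit false
set_option backward.isDefEq.respectTransparency false
set_option backward.isDefEq.respectTransparency.types false

universe u

open CategoryTheory CategoryTheory.Limits AlgebraicGeometry Opposite AlgSt

noncomputable section

namespace Groth.L24.LocQ

open Groth.L24.St

variable {S : Scheme.{u}} {P : MorphismProperty (AlgSp.Sp S)}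

/-- A square of spaces read on scheme charts. -/
def spChartSquareIso {F G : AlgSp.Sp S} {U V : Over S} {a : (AlgSp.yon S).obj U ⟶ F}
    {b : (AlgSp.yon S).obj V ⟶ G} {k : U ⟶ V} {h : F ⟶ G} (e : a ≫ h = (AlgSp.yon S).map k ≫ b) :
    BasedFunctor.comp (spChart a) (ofSpMap h) ≅ BasedFunctor.comp (overMap k) (spChart b) :=
  whiskerL (ofOverCat U) (isoOfSpMapEq
    (show spMap (BasedFunctor.comp (ofSpMap a) (ofSpMap h)) =
        spMap (BasedFunctor.comp (ofSpMap ((AlgSp.yon S).map k)) (ofSpMap b)) by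
      rw [spMap_comp, spMap_comp, spMap_ofSpMap, spMap_ofSpMap, spMap_ofSpMap, spMap_ofSpMap, e]))

theorem locP_etale_smooth {F G : AlgSp.Sp S} {a : F ⟶ G} (ha : AlgSp.RepWith @Etale a) :
    AlgSp.LocP @Smooth a :=
  Groth.L23.locP_mono (fun φ hφ => Groth.L23.etLocal_smooth.etale φ hφ)
    (Groth.L23.locP_of_repWith Groth.L23.etLocal_etale ha)

/-- A chart square of spaces gives one of schemes. -/
theorem locQ_of_spaces (hP : AlgSp.IsSmoothLocalST P) {𝒳 𝒴 : AlgSt.Cat S} (h𝒳 : FibCat.IsFibGrpd 𝒳.p)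
    {f : 𝒳 ⥤ᵇ 𝒴} {U V : AlgSp.Space S} {x : ofSp U.obj ⥤ᵇ 𝒳} {y : ofSp V.obj ⥤ᵇ 𝒴} {h : U.obj ⟶ V.obj}
    (α : BasedFunctor.comp x f ≅ BasedFunctor.comp (ofSpMap h) y)
    (hx : RepByAlgSpWith (AlgSp.LocP @Smooth) x) (hxs : RepByAlgSpWith AlgSp.IsSurjectiveMor x)
    (hy : RepByAlgSpWith (AlgSp.LocP @Smooth) y) (hh : P h) : AlgSt.LocQ P f := by
  obtain ⟨V₀, b, hb, hbs⟩ := V.property.atlas
  have sq := IsPullback.of_hasPullback h b
  have hZ : AlgSp.IsAlgSpace (pullback h b) :=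
    isAlgSpace_pullback U.property (AlgSp.IsAlgSpace.yon_obj V₀) V.property h b
  obtain ⟨W, c, hc, hcs⟩ := hZ.atlas
  obtain ⟨k, hk⟩ := (AlgSp.yon S).map_surjective (c ≫ pullback.snd h b)
  have e : (c ≫ pullback.fst h b) ≫ h = (AlgSp.yon S).map k ≫ b := by
    rw [hk, Category.assoc, Category.assoc, pullback.condition]
  have ha : AlgSp.RepWith @Etale (c ≫ pullback.fst h b) :=
    Groth.L23.repWith_comp hc (Groth.L23.repWith_of_isPullback sq.flip hb)
  have has : AlgSp.RepWith @Surjective (c ≫ pullback.fst h b) :=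
    Groth.L23.repWith_comp hcs (Groth.L23.repWith_of_isPullback sq.flip hbs)
  have hsm : RepByAlgSpWith (AlgSp.LocP @Smooth) (BasedFunctor.comp (spChart (c ≫ pullback.fst h b)) x) :=
    smooth_spChart_comp ha hx
  refine ⟨W, V₀, BasedFunctor.comp (spChart (c ≫ pullback.fst h b)) x, BasedFunctor.comp (spChart b) y, k,
    whiskerL (spChart (c ≫ pullback.fst h b)) α ≪≫ whiskerR (spChartSquareIso e) y, hsm, ?_,
    smooth_spChart_comp hb hy, ?_⟩
  · exact repWith_surjective_of_isSurjective (overCat_isFibGrpd W) h𝒳 (repWith_rep1 hsm)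
      ((isSurjective_iff_ofChart _).2 (surjective_spChart_comp has h𝒳 hxs))
  · rw [hk]
    exact hP.precomp (AlgSp.IsAlgSpace.yon_obj W) hZ (AlgSp.IsAlgSpace.yon_obj V₀) _ _ (locP_etale_smooth hc)
      (hP.baseChange U.property V.property hZ (AlgSp.IsAlgSpace.yon_obj V₀) _ _ _ _ sq (locP_etale_smooth hb) hh)

theorem locQ_iff_spaces (hP : AlgSp.IsSmoothLocalST P) {𝒳 𝒴 : AlgSt.Cat S} (h𝒳 : FibCat.IsFibGrpd 𝒳.p)
    (f : 𝒳 ⥤ᵇ 𝒴) :
    AlgSt.LocQ P f ↔
      ∃ (U V : AlgSp.Space S) (x : ofSp U.obj ⥤ᵇ 𝒳) (y : ofSp V.obj ⥤ᵇ 𝒴) (h : U ⟶ V)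
        (_ : BasedFunctor.comp x f ≅ BasedFunctor.comp (ofSpMap h.hom) y),
        RepByAlgSpWith (AlgSp.LocP @Smooth) x ∧ RepByAlgSpWith AlgSp.IsSurjectiveMor x ∧
        RepByAlgSpWith (AlgSp.LocP @Smooth) y ∧ P h.hom := by
  refine ⟨?_, fun ⟨U, V, x, y, h, α, hx, hxs, hy, hh⟩ => locQ_of_spaces hP h𝒳 α hx hxs hy hh⟩
  rintro ⟨U, V, x, y, h, α, hx, hxs, hy, hh⟩
  exact ⟨⟨_, AlgSp.IsAlgSpace.yon_obj U⟩, ⟨_, AlgSp.IsAlgSpace.yon_obj V⟩, BasedFunctor.comp (toOverCat U) x,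
    BasedFunctor.comp (toOverCat V) y, ObjectProperty.homMk ((AlgSp.yon S).map h),
    whiskerL (toOverCat U) α ≪≫ whiskerR (yonToOverIso h).symm y,
    (repWith_precomp (toOverCat_isEquivOver U) x).2 hx, (repWith_precomp (toOverCat_isEquivOver U) x).2 hxs,
    (repWith_precomp (toOverCat_isEquivOver V) y).2 hy, hh⟩

theorem locP_of_spChart {R : MorphismProperty Scheme.{u}} (hR : Groth.L23.EtLocal R) {F : AlgSp.Space S}
    {U : Over S} {a : (AlgSp.yon S).obj U ⟶ F.obj} (h : RepByAlgSpWith (AlgSp.LocP R) (spChart a)) :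
    AlgSp.LocP R a :=
  prop_of_repWith hasAtlasCovers_atlasCov (pBase_locP hR) (isLocalOnBase_locP hR) (AlgSp.IsAlgSpace.yon_obj U)
    F.property a ((repWith_precomp (ofOverCat_isEquivOver U) _).1 h)

theorem locQ_ofSpMap_iff (hP : AlgSp.IsSmoothLocalST P) (F G : AlgSp.Space S) (a : F.obj ⟶ G.obj) :
    AlgSt.LocQ P (ofSpMap a) ↔ P a := by
  obtain ⟨V', b, hb, hbs⟩ := G.property.atlas
  refine ⟨fun hf => ?_, fun ha => ?_⟩
  · have hF := isAlgStack_of_repByAlgSp (𝒳 := ofSp F.obj) ⟨F, _, isEquivOver_id _⟩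
    have hG := isAlgStack_of_repByAlgSp (𝒳 := ofSp G.obj) ⟨G, _, isEquivOver_id _⟩
    have hys : RepByAlgSpWith AlgSp.IsSurjectiveMor (spChart b) :=
      repWith_surjective_of_isSurjective (overCat_isFibGrpd V') (ofSp_isFibGrpd G.obj)
        (repWith_rep1 (smooth_spChart G.property hb)) ((isSurjective_iff_ofChart _).2 (surjective_spChart hbs))
    obtain ⟨U', ℓ, h', hℓ, -, ⟨i⟩, hx, ⟨α⟩, hxs⟩ :=
      exists_chart hF hG (ofSpMap a) (spChart b) (smooth_spChart G.property hb)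
    obtain ⟨a₀, ⟨ia⟩⟩ := exists_spChart_iso (BasedFunctor.comp ℓ (FibCat.fpFst (ofSpMap a) (spChart b)))
    have hh' : P ((AlgSp.yon S).map h') := prop_of_chart hP (ofSp_isFibGrpd F.obj) (ofSp_isFibGrpd G.obj) hf
      (smooth_spChart G.property hb) hℓ i
    have ha₀ : AlgSp.LocP @Smooth a₀ := locP_of_spChart Groth.L23.etLocal_smooth ((repWith_congr ia).1 hx)
    have hsurj : Function.Surjective (Points.ofChart (spChart a₀)) :=
      (isSurjective_iff_ofChart _).1 (isSurjective_of_repWith (overCat_isFibGrpd U') (ofSp_isFibGrpd F.obj)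
        ((repWith_congr ia).1 (hxs hys)))
    have key : a₀ ≫ a = (AlgSp.yon S).map h' ≫ b := by
      have h1 := spMap_congr (show BasedFunctor.comp (ofSpMap a₀) (ofSpMap a) ≅
          BasedFunctor.comp (ofSpMap ((AlgSp.yon S).map h')) (ofSpMap b) from
        whiskerL (toOverCat U') (whiskerR ia.symm (ofSpMap a) ≪≫ α))
      rwa [spMap_comp, spMap_comp, spMap_ofSpMap, spMap_ofSpMap, spMap_ofSpMap, spMap_ofSpMap] at h1
    refine (hP.locality F.property G.property a).2 fun x₀ => ?_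
    obtain ⟨t, ht⟩ := hsurj (ptMap F.obj x₀)
    refine ⟨_, _, a₀, b, (AlgSp.yon S).map h', AlgSp.Points.ofScheme U' t, AlgSp.IsAlgSpace.yon_obj U',
      AlgSp.IsAlgSpace.yon_obj V', ha₀, locP_etale_smooth hb, key, ?_, hh'⟩
    rw [← AlgSp.Points.ofPt_eq_map_ofScheme]
    exact (ptMap_bijective F.obj).injective ((ptMap_ofPt a₀ t).trans ht)
  · exact locQ_of_spaces hP (ofSp_isFibGrpd F.obj) (U := F) (V := G) (x := BasedFunctor.id _)
      (y := BasedFunctor.id _) (h := a) (Iso.refl _)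
      (repWith_mono (fun _ _ _ b hb' => hb') (repWith_id_smooth F)) (repWith_id_surjective F)
      (repWith_id_smooth G) ha
where
  repWith_id_smooth (F : AlgSp.Space S) : RepByAlgSpWith (AlgSp.LocP @Smooth) (BasedFunctor.id (ofSp F.obj)) :=
    (repWith_congr (isoOfSpMapEq (by rw [spMap_id, spMap_ofSpMap]) : BasedFunctor.id (ofSp F.obj) ≅ ofSpMap (𝟙 F.obj))).2
      (repWith_ofSpMap_of_prop (pBase_locP Groth.L23.etLocal_smooth) F.property F.property _
        (locP_etale_smooth (Groth.L23.repWith_of_isIso _)))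
  repWith_id_surjective (F : AlgSp.Space S) : RepByAlgSpWith AlgSp.IsSurjectiveMor (BasedFunctor.id (ofSp F.obj)) :=
    repWith_surjective_of_isSurjective (ofSp_isFibGrpd F.obj) (ofSp_isFibGrpd F.obj)
      (repWith_rep1 (repWith_id_smooth F)) (isSurjective_of_isEquivOver (isEquivOver_id _))

end Groth.L24.LocQ
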